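import Mathlib
import Cfsg.Agent.Base
import Cfsg.Agent.Lib.SL2.Cases
import Cfsg.Agent.Lib.Invol.Count

/-! A group of order 24 without elements of order 6 is `S₄`. -/

set_option autoImplicit false
open Subgroup

namespace H4

theorem exists_orderOf_mul {G : Type*} [Group G] [Finite G] {x : G} {r : ℕ} (hr : r.Prime)
    (h : r ∣ Nat.card (centralizer ({x} : Set G))) (hc : r.Coprime (orderOf x)) :
    ∃ g : G, orderOf g = r * orderOf x := by
  haveI := Fact.mk hr
  obtain ⟨y, hy⟩ := exists_prime_orderOf_dvd_card' r h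
  have hy' : orderOf (y : G) = r := by rw [orderOf_coe, hy]
  have hc' : Commute (y : G) x := mem_centralizer_singleton_iff.1 y.2
  exact ⟨y * x, by rw [hc'.orderOf_mul_eq_mul_orderOf_of_coprime (by rwa [hy']), hy']⟩

theorem index_centralizer_lt {G : Type*} [Group G] [Finite G] {K : Subgroup G} [hK : K.Normal]
    {x : G} (hx : x ∈ K) (hx1 : x ≠ 1) : (centralizer ({x} : Set G)).index < Nat.card K := by
  rw [← H9.card_isConj_eq_index]
  have h1 : {y : G | IsConj x y} ⊂ (K : Set G) := by
    refine ⟨fun y hy => ?_, fun h => hx1 (isConj_one_left.1 (h K.one_mem))⟩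
    obtain ⟨c, rfl⟩ := isConj_iff.1 hy
    exact hK.conj_mem x hx c
  exact Set.ncard_lt_ncard h1

theorem sym_four_of_no_six {G : Type*} [Group G] [Finite G] (h : Nat.card G = 24)
    (h6 : ∀ g : G, orderOf g ≠ 6) : Nonempty (G ≃* Equiv.Perm (Fin 4)) := by
  refine H29.sym_four_of_card h fun K hK hd => ?_
  by_contra hne
  have h1 : Nat.card K ≠ 1 := fun e => hne (card_eq_one.1 e)
  have h2 := Nat.le_of_dvd (by norm_num) hd
  by_cases h3 : 3 ∣ Nat.card K
  · obtain ⟨y, hy⟩ := exists_prime_orderOf_dvd_card' 3 h3
    have hy' : orderOf (y : G) = 3 := by rw [orderOf_coe, hy]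
    have h4 := index_centralizer_lt y.2 (fun e => by rw [e, orderOf_one] at hy'; omega)
    have h5 := (centralizer ({(y : G)} : Set G)).card_mul_index
    obtain ⟨g, hg⟩ := exists_orderOf_mul (x := (y : G)) Nat.prime_two (by
      rw [h] at h5
      generalize (centralizer ({(y : G)} : Set G)).index = n at *
      have : n < 6 := by omega
      interval_cases n <;> omega) (by rw [hy']; norm_num)
    exact h6 g (by rw [hg, hy'])
  · have h4 : Nat.card K = 2 := by
      generalize Nat.card K = n at *
      interval_cases n <;> omega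
    obtain ⟨y, hy⟩ := exists_prime_orderOf_dvd_card' 2 (h4 ▸ dvd_rfl : 2 ∣ Nat.card K)
    have hy' : orderOf (y : G) = 2 := by rw [orderOf_coe, hy]
    have h4' := index_centralizer_lt y.2 (fun e => by rw [e, orderOf_one] at hy'; omega)
    have h5 := (centralizer ({(y : G)} : Set G)).card_mul_index
    obtain ⟨g, hg⟩ := exists_orderOf_mul (x := (y : G)) Nat.prime_three (by
      rw [h] at h5
      generalize (centralizer ({(y : G)} : Set G)).index = n at *
      have : n < 2 := by omega
      interval_cases n <;> omega) (by rw [hy']; norm_num)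
    exact h6 g (by rw [hg, hy'])

end H4
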