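import Mathlib
import Cfsg.Agent.Base
import Cfsg.Agent.Lib.H4.Sieve2
import Cfsg.Agent.Lib.H4.S4Rec
import Cfsg.Agent.Lib.SL2.Klein
import Cfsg.Agent.Lib.FGS.OrderTypeFrob
import Cfsg.Agent.S0497

/-! Local structure of a simple group of order 168. -/

set_option autoImplicit false
open Cfsg Subgroup

namespace H4.G168

variable {G : Type*} [Group G] [Finite G] [IsSimpleGroup G] (h : Nat.card G = 168)
include h

theorem nc : ¬ IsMulCommutative G := H36.not_comm_of_not_prime (by rw [h]; norm_num)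

theorem index_ge {H : Subgroup G} (hH : H ≠ ⊤) : 7 ≤ H.index := by
  have h1 := H36.two_mul_card_dvd_factorial (nc h) hH
  rw [h] at h1
  by_contra h2
  have := h1.trans (Nat.factorial_dvd_factorial (by omega : H.index ≤ 6))
  revert this; decide

theorem card_le {H : Subgroup G} (hH : H ≠ ⊤) : Nat.card H ≤ 24 := by
  have := H.card_mul_index
  have := index_ge h hH
  nlinarith

theorem norm_ne_top {X : Subgroup G} (h1 : X ≠ ⊥) (h2 : X ≠ ⊤) : normalizer (X : Set G) ≠ ⊤ :=
  fun c => (normalizer_eq_top_iff.1 c).eq_bot_or_eq_top.elim h1 h2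

theorem card_seven (P : Sylow 7 G) : Nat.card P = 7 :=
  haveI : Fact (Nat.Prime 7) := ⟨by norm_num⟩
  H36.card_sylow_eq_pow P (k := 1) (by rw [h]; norm_num) (by rw [h]; norm_num)

theorem card_three (P : Sylow 3 G) : Nat.card P = 3 :=
  H36.card_sylow_eq_pow P (k := 1) (by rw [h]; norm_num) (by rw [h]; norm_num)

theorem card_two (P : Sylow 2 G) : Nat.card P = 8 :=
  H36.card_sylow_eq_pow P (k := 3) (by rw [h]; norm_num) (by rw [h]; norm_num)

theorem seven (P : Sylow 7 G) : Nat.card (Sylow 7 G) = 8 ∧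
    Nat.card (centralizer ((P : Subgroup G) : Set G)) = 7 := by
  haveI : Fact (Nat.Prime 7) := ⟨by norm_num⟩
  obtain ⟨e, c, l, a1, -, a2, -⟩ := Sv.exists_data (nc h) 7 (by norm_num) P (card_seven h P)
    (C := fun n _ c _ => n == 8 && c == 1) (by rw [h]; decide +kernel)
  simp only [Bool.and_eq_true, beq_iff_eq] at a1
  exact ⟨a1.1, by rw [a2, a1.2]⟩

theorem three (P : Sylow 3 G) : Nat.card (Sylow 3 G) = 28 ∧
    Nat.card (centralizer ((P : Subgroup G) : Set G)) = 3 := by
  obtain ⟨e, c, l, a1, -, a2, -⟩ := Sv.exists_data (nc h) 3 (by norm_num) P (card_three h P)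
    (C := fun n _ c _ => n == 28 && c == 1) (by rw [h]; decide +kernel)
  simp only [Bool.and_eq_true, beq_iff_eq] at a1
  exact ⟨a1.1, by rw [a2, a1.2]⟩

theorem not_seven {q : ℕ} (hq : q.Prime) (h7 : q ≠ 7) {g : G} (hg : q ∣ orderOf g) :
    ¬ 7 ∣ orderOf g := by
  haveI : Fact (Nat.Prime 7) := ⟨by norm_num⟩
  haveI := Fact.mk hq
  obtain ⟨P⟩ : Nonempty (Sylow 7 G) := inferInstance
  exact not_dvd_orderOf_of_cent P (card_seven h P) (c := 1) (seven h P).2 h7
    (by simpa using hq.one_lt.ne') hg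

theorem not_three {q : ℕ} (hq : q.Prime) (h7 : q ≠ 3) {g : G} (hg : q ∣ orderOf g) :
    ¬ 3 ∣ orderOf g := by
  haveI := Fact.mk hq
  obtain ⟨P⟩ : Nonempty (Sylow 3 G) := inferInstance
  exact not_dvd_orderOf_of_cent P (card_three h P) (c := 1) (three h P).2 h7
    (by simpa using hq.one_lt.ne') hg

theorem card_cent_dvd {x : G} (hx : 2 ∣ orderOf x) : Nat.card (centralizer ({x} : Set G)) ∣ 8 := by
  have h3 : ¬ 3 ∣ Nat.card (centralizer ({x} : Set G)) := fun h3 => by
    obtain ⟨g, hg⟩ := exists_orderOf_mul Nat.prime_three h3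
      ((Nat.Prime.coprime_iff_not_dvd Nat.prime_three).2 (not_three h Nat.prime_two (by norm_num) hx))
    exact not_three h Nat.prime_two (by norm_num) (hg ▸ hx.mul_left 3) (hg ▸ dvd_mul_right 3 _)
  have h7 : ¬ 7 ∣ Nat.card (centralizer ({x} : Set G)) := fun h3 => by
    obtain ⟨g, hg⟩ := exists_orderOf_mul (by norm_num) h3
      ((Nat.Prime.coprime_iff_not_dvd (by norm_num)).2 (not_seven h Nat.prime_two (by norm_num) hx))
    exact not_seven h Nat.prime_two (by norm_num) (hg ▸ hx.mul_left 7) (hg ▸ dvd_mul_right 7 _)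
  have := card_subgroup_dvd_card (centralizer ({x} : Set G))
  rw [h, show 168 = 8 * 3 * 7 by norm_num] at this
  exact ((Nat.Prime.coprime_iff_not_dvd Nat.prime_three).2 h3).symm.dvd_of_dvd_mul_right
    (((Nat.Prime.coprime_iff_not_dvd (by norm_num)).2 h7).symm.dvd_of_dvd_mul_right this)

/-- an element of order 3 or 7 normalizing a 2-subgroup acts fixed point freely -/
theorem modEq_one {A : Subgroup G} (hA : IsPGroup 2 A) {r : ℕ} (hr : r = 3 ∨ r = 7) {u : G}
    (hu : orderOf u = r) (hn : u ∈ normalizer (A : Set G)) : Nat.card A % r = 1 := by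
  have hr' : r.Prime := by rcases hr with rfl | rfl <;> norm_num
  haveI := Fact.mk hr'
  have e := card_modEq_card_inf_centralizer (q := r) (k := 1) hn
    (by rw [pow_one, ← hu, pow_orderOf_eq_one])
  have : A ⊓ centralizer {u} = ⊥ := by
    by_contra hne
    obtain ⟨t, ht, ht2⟩ := H9.exists_involution_of_isPGroup (hA.to_le inf_le_left) hne
    have h1 : u ∈ centralizer ({t} : Set G) :=
      mem_centralizer_singleton_iff.2 (mem_centralizer_singleton_iff.1 ht.2).symm
    have h2 := (orderOf_dvd_natCard _ h1).trans (card_cent_dvd h (ht2 ▸ dvd_rfl))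
    rw [hu] at h2
    rcases hr with rfl | rfl <;> omega
  rwa [this, card_bot, Nat.ModEq, Nat.mod_eq_of_lt hr'.one_lt] at e

theorem two : Nat.card (Sylow 2 G) = 21 := by
  have h1 := Sv.chkPow_sound (nc h) (p := 2) (k := 3) (by norm_num) (by rw [h]; norm_num)
    (by rw [h]; norm_num) (C := fun x => x == 7 || x == 21) (by rw [h]; decide +kernel)
  simp only [Bool.or_eq_true, beq_iff_eq] at h1
  refine h1.resolve_left fun h7 => ?_
  obtain ⟨T⟩ : Nonempty (Sylow 2 G) := inferInstance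
  have h2 := H36.card_eq_sylow_mul T
  rw [h, h7] at h2
  obtain ⟨u, hu⟩ := exists_prime_orderOf_dvd_card' (G := normalizer ((T : Subgroup G) : Set G)) 3
    (by omega)
  have := modEq_one h T.isPGroup' (Or.inl rfl) (by rw [orderOf_coe, hu]) u.2
  rw [show Nat.card (T : Subgroup G) = 8 from card_two h T] at this
  omega

theorem norm_two (T : Sylow 2 G) : normalizer ((T : Subgroup G) : Set G) = T := by
  have h2 := H36.card_eq_sylow_mul T
  rw [h, two h] at h2
  exact (eq_of_le_of_card_ge le_normalizer (by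
    rw [show Nat.card (T : Subgroup G) = 8 from card_two h T]; omega)).symm

theorem cent_eq (T : Sylow 2 G) {z : G} (hz : z ∈ (T : Subgroup G)) (h1 : z ≠ 1)
    (hc : ∀ t ∈ (T : Subgroup G), t * z = z * t) : centralizer ({z} : Set G) = T :=
  (eq_of_le_of_card_ge (fun t ht => mem_centralizer_singleton_iff.2 (hc t ht)) (by
    rw [show Nat.card (T : Subgroup G) = 8 from card_two h T]
    exact Nat.le_of_dvd (by norm_num)
      (card_cent_dvd h ((H35.isPElt_of_mem T.isPGroup' hz).dvd_orderOf h1)))).symm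

theorem exists_dih (T : Sylow 2 G) : ∃ a b, H73.DihData (T : Subgroup G) 4 a b := by
  have hS := card_two h T
  have hab : ¬ ∀ x ∈ (T : Subgroup G), ∀ y ∈ (T : Subgroup G), x * y = y * x := fun hc =>
    H36.not_norm_le_cent (nc h) (by rw [h]; norm_num) T
      ((norm_two h T).le.trans fun x hx y hy => hc y hy x hx)
  obtain ⟨t, htS, ht, htc⟩ : ∃ t ∈ (T : Subgroup G), orderOf t = 2 ∧
      (T : Subgroup G) ≤ centralizer {t} := by
    have : Nontrivial (T : Subgroup G) := Finite.one_lt_card_iff_nontrivial.1 (by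
      rw [show Nat.card (T : Subgroup G) = 8 from hS]; norm_num)
    obtain ⟨t, ht, ht2⟩ := H9.exists_involution_of_isPGroup (T.2.to_subgroup (center _))
      ((center _).nontrivial_iff_ne_bot.1 T.2.center_nontrivial)
    exact ⟨t, t.2, by rw [orderOf_coe, ht2], fun s hs => mem_centralizer_singleton_iff.2
      (congrArg Subtype.val (mem_center_iff.1 ht ⟨s, hs⟩))⟩
  obtain ⟨g, hg, hg'⟩ : ∃ g : G, g * t * g⁻¹ ∈ (T : Subgroup G) ∧ g * t * g⁻¹ ≠ t := by
    by_contra h7
    push Not at h7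
    have := Nat.card_zpowers t
    rw [H73.zpowers_eq_top_of_isolated T ht htS h7, card_top] at this
    omega
  exact Cfsg.Agent.S0497.dihData_of_card_eight hS hab htS hg ⟨H9.mul_self_of_orderOf_two ht,
    H9.ne_one_of_orderOf_two ht, H73.conj_mul_self (H9.mul_self_of_orderOf_two ht) g,
    by simpa using H9.ne_one_of_orderOf_two ht, hg'.symm,
    (mem_centralizer_singleton_iff.1 (htc hg)).symm⟩

omit h [Finite G] [IsSimpleGroup G] in
theorem orderOf_sq {a : G} (ha : orderOf a = 4) : orderOf (a ^ 2) = 2 := by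
  rw [orderOf_pow' _ two_ne_zero, ha]; rfl

theorem cent_sq {T : Sylow 2 G} {a b : G} (hd : H73.DihData (T : Subgroup G) 4 a b) :
    centralizer ({a ^ 2} : Set G) = T := by
  have h2 := orderOf_sq hd.ord
  refine cent_eq h T (pow_mem hd.a_mem 2) (H9.ne_one_of_orderOf_two h2) fun t ht => ?_
  by_cases hta : t ∈ zpowers a
  · obtain ⟨i, rfl⟩ := hta
    exact ((Commute.refl a).zpow_left i).pow_right 2
  · have h1 := hd.inverts_of_notMem ht hta
    have h3 : t * a ^ 2 * t⁻¹ = a ^ 2 := by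
      rw [← conj_pow, h1, inv_pow, inv_eq_of_mul_eq_one_right (H9.mul_self_of_orderOf_two h2)]
    exact mul_inv_eq_iff_eq_mul.1 h3

theorem isConj_two {s t : G} (hs : orderOf s = 2) (ht : orderOf t = 2) : IsConj s t := by
  obtain ⟨T⟩ : Nonempty (Sylow 2 G) := inferInstance
  obtain ⟨a, b, hd⟩ := exists_dih h T
  have hd' : H73.DihData (centralizer ({a ^ 2} : Set G)) (2 ^ (0 + 2)) a b := by rwa [cent_sq h hd]
  have hn : ∀ N : Subgroup G, N.Normal → N.index ≠ 2 := fun N _ =>
    H36.no_index_two (H36.commutator_eq_top_of_simple (nc h)) N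
  exact (H73.isConj_of_dih hn (orderOf_sq hd.ord) hd' hs).trans
    (H73.isConj_of_dih hn (orderOf_sq hd.ord) hd' ht).symm

theorem card_cent_two {t : G} (ht : orderOf t = 2) : Nat.card (centralizer ({t} : Set G)) = 8 := by
  obtain ⟨T⟩ : Nonempty (Sylow 2 G) := inferInstance
  obtain ⟨a, b, hd⟩ := exists_dih h T
  rw [H9.card_centralizer_eq_of_isConj (isConj_two h ht (orderOf_sq hd.ord)), cent_sq h hd]
  exact card_two h T

theorem exists_sylow_cent {t : G} (ht : orderOf t = 2) :
    ∃ T : Sylow 2 G, centralizer ({t} : Set G) = T := by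
  have hp : IsPGroup 2 (centralizer ({t} : Set G)) := IsPGroup.of_card (n := 3) (card_cent_two h ht)
  obtain ⟨T, hT⟩ := hp.exists_le_sylow
  exact ⟨T, eq_of_le_of_card_ge hT (by rw [card_cent_two h ht]; exact (card_two h T).le)⟩

/-- the centralizer of an involution `t` is dihedral with `a ^ 2 = t` -/
theorem exists_dih_cent {t : G} (ht : orderOf t = 2) :
    ∃ a b, H73.DihData (centralizer ({t} : Set G)) 4 a b ∧ a ^ 2 = t := by
  obtain ⟨T, hT⟩ := exists_sylow_cent h ht
  obtain ⟨a, b, hd⟩ := exists_dih h T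
  rw [← hT] at hd
  refine ⟨a, b, hd, ?_⟩
  exact H73.eq_of_mem_zpowers_of_dih (k := 0) ht hd (orderOf_sq hd.ord)
    (pow_mem (mem_zpowers a) 2)

theorem orderOf_cases (g : G) :
    orderOf g = 1 ∨ orderOf g = 2 ∨ orderOf g = 3 ∨ orderOf g = 4 ∨ orderOf g = 7 := by
  have h1 : orderOf g ∣ 168 := h ▸ orderOf_dvd_natCard g
  have h2 := not_seven h (g := g) Nat.prime_two (by norm_num)
  have h3 := not_seven h (g := g) Nat.prime_three (by norm_num)
  have h4 := not_three h (g := g) Nat.prime_two (by norm_num)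
  have h5 : orderOf g ≠ 8 := fun h5 => by
    obtain ⟨T, hT⟩ := H35.IsPElt.exists_sylow (p := 2) (x := g) ⟨3, h5⟩
    obtain ⟨a, b, hd⟩ := exists_dih h T
    by_cases hg : g ∈ zpowers a
    · have := orderOf_dvd_of_mem_zpowers hg
      rw [h5, hd.ord] at this; omega
    · have := hd.orderOf_of_notMem hT hg; omega
  have := Nat.le_of_dvd (by norm_num) h1
  generalize orderOf g = n at *
  interval_cases n <;> omega

theorem dihInv {t : G} (ht : orderOf t = 2) : ∃ R, H29.DihInv t R := by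
  obtain ⟨a, b, hd, ha⟩ := exists_dih_cent h ht
  refine ⟨zpowers a, H9.mul_self_of_orderOf_two ht, H9.ne_one_of_orderOf_two ht, fun s h1 h2 => ?_,
    fun r hr => (mem_centralizer_singleton_iff.1 (hd.zpowers_le hr)).symm, ?_, fun s hs => ?_⟩
  · exact isConj_iff.1 (isConj_two h ht (orderOf_eq_prime (by rw [pow_two, h1]) h2))
  · rw [card_cent_two h ht, Nat.card_zpowers, hd.ord]
  · have hs' : s ∈ centralizer ({t} : Set G) := mem_centralizer_singleton_iff.2 hs.symm
    constructor
    · rintro ⟨h1, h2, h3⟩ h4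
      exact h3 (H73.eq_of_mem_zpowers_of_dih (k := 0) ht hd
        (orderOf_eq_prime (by rw [pow_two, h1]) h2) h4).symm
    · intro h1
      have h2 := hd.orderOf_of_notMem hs' h1
      exact ⟨H9.mul_self_of_orderOf_two h2, H9.ne_one_of_orderOf_two h2,
        fun e => h1 (e ▸ ha ▸ pow_mem (mem_zpowers a) 2)⟩

theorem swap {s t : G} (hp : H29.IsPair s t) : H29.Cj s t t s := by
  have h1 : orderOf (s * t) = 2 := orderOf_eq_prime (by rw [pow_two, hp.rot.sq₂]) hp.rot.ne₂
  obtain ⟨a, b, hd, ha⟩ := exists_dih_cent h h1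
  have key : ∀ x : G, x * x = 1 → x ≠ 1 → x ≠ s * t → x * (s * t) = s * t * x →
      a * x * a⁻¹ = s * t * x := fun x h2 h3 h4 h5 => by
    have h6 := hd.inverts_of_notMem (mem_centralizer_singleton_iff.2 h5) fun h6 => h4
      (H73.eq_of_mem_zpowers_of_dih (k := 0) h1 hd (orderOf_eq_prime (by rw [pow_two, h2]) h3) h6)
    rw [← h6, ← ha, inv_eq_of_mul_eq_one_right h2, ← mul_assoc, ← mul_assoc, mul_assoc a x x, h2,
      mul_one, pow_two]
  refine ⟨a, ?_, ?_⟩
  · rw [key s hp.sq₁ hp.ne₁ (fun e => hp.ne₂ (left_eq_mul.1 e)) (by rw [mul_assoc s t s, ← hp.comm]),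
      mul_assoc, ← hp.comm, ← mul_assoc, hp.sq₁, one_mul]
  · rw [key t hp.sq₂ hp.ne₂ (fun e => hp.ne₁ (right_eq_mul.1 e)) (by rw [← mul_assoc, ← hp.comm]),
      mul_assoc, hp.sq₂, mul_one]

theorem rot {s t : G} (hp : H29.IsPair s t) : H29.Cj s t t (s * t) := by
  obtain ⟨g, h1, h2⟩ := swap h hp.symm.rot
  refine (swap h hp).trans ⟨g, ?_, by rw [h1, hp.comm]⟩
  have h3 : t = t * s * s := by rw [mul_assoc, hp.sq₁, mul_one]
  calc g * t * g⁻¹ = (g * (t * s) * g⁻¹) * (g * s * g⁻¹) := by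
        conv_lhs => rw [h3]
        group
    _ = t := by rw [h1, h2, ← hp.comm, ← mul_assoc, hp.sq₁, one_mul]

theorem cent_klein {V : Subgroup G} (hV : IsKleinFour V) : centralizer (V : Set G) ≤ V := by
  obtain ⟨s, t, hp, rfl⟩ := H29.exists_isPair hV
  obtain ⟨R, hR⟩ := dihInv h (orderOf_eq_prime (by rw [pow_two, hp.sq₁]) hp.ne₁)
  intro g hg
  exact hp.mem_closure.2 (hR.eq_of_comm hp
    (mem_centralizer_iff.1 hg s (subset_closure (by simp))).symm
    (mem_centralizer_iff.1 hg t (subset_closure (by simp))).symm)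

omit h [IsSimpleGroup G] in
theorem le_norm_klein {V T : Subgroup G} (hV : IsKleinFour V) (hT : Nat.card T = 8) (hle : V ≤ T) :
    T ≤ normalizer (V : Set G) := by
  refine le_normalizer_of_relIndex_eq (p := 2) (IsPGroup.of_card (n := 3) hT) hle ?_
  have := H1.card_mul_relIndex_of_le hle
  rw [hV.card_four, hT] at this
  omega

theorem card_norm_klein {V : Subgroup G} (hV : IsKleinFour V) :
    Nat.card (normalizer (V : Set G)) = 24 := by
  have h4 := hV.card_four
  have h1 := card_le h (norm_ne_top h (X := V) (fun e => by rw [e, card_bot] at h4; omega)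
    (fun e => by rw [e, card_top] at h4; omega))
  have h2 : Nat.card (normalizer (V : Set G)) ∣ 168 := h ▸ card_subgroup_dvd_card _
  obtain ⟨s, t, hp, hst⟩ := H29.exists_isPair hV
  have key : ∀ x ∈ V, x ≠ 1 → orderOf x = 2 ∧ centralizer ({x} : Set G) ≤ normalizer (V : Set G) :=
    fun x hx hx1 => by
      have h3 : orderOf x = 2 := orderOf_eq_prime
        (by rw [pow_two]; exact congrArg Subtype.val (IsKleinFour.mul_self (⟨x, hx⟩ : V))) hx1
      refine ⟨h3, le_norm_klein hV (card_cent_two h h3) fun y hy =>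
        mem_centralizer_singleton_iff.2 ?_⟩
      exact congrArg Subtype.val (hV.isMulCommutative.is_comm.comm (⟨y, hy⟩ : V) ⟨x, hx⟩)
  obtain ⟨s1, s2⟩ := key s (hst ▸ subset_closure (by simp)) hp.ne₁
  obtain ⟨t1, t2⟩ := key t (hst ▸ subset_closure (by simp)) hp.ne₂
  have h3 : 8 ∣ Nat.card (normalizer (V : Set G)) := card_cent_two h s1 ▸ card_dvd_of_le s2
  have h5 : Nat.card (normalizer (V : Set G)) ≠ 8 := fun e => by
    have e1 := eq_of_le_of_card_ge s2 (by rw [e, card_cent_two h s1])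
    have e2 := eq_of_le_of_card_ge t2 (by rw [e, card_cent_two h t1])
    obtain ⟨a, b, hd, ha⟩ := exists_dih_cent h s1
    refine hp.ne (H73.eq_of_mem_zpowers_of_dih (k := 0) s1 hd t1 ?_).symm
    refine hd.mem_zpowers_of_commute (by norm_num) (mem_centralizer_singleton_iff.2 hp.comm.symm) ?_
    exact (mem_centralizer_singleton_iff.1 (e2 ▸ e1 ▸ hd.a_mem)).symm
  generalize Nat.card (normalizer (V : Set G)) = n at *
  obtain ⟨m, rfl⟩ := h3
  have : m ≤ 3 := by omega
  interval_cases m <;> omega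

theorem sym_four {H : Subgroup G} (hH : Nat.card H = 24) : Nonempty (H ≃* Equiv.Perm (Fin 4)) :=
  sym_four_of_no_six hH fun g hg => by
    have := orderOf_cases h (g : G)
    rw [orderOf_coe, hg] at this
    omega

theorem two_classes : ∃ V₁ V₂ : Subgroup G, IsKleinFour V₁ ∧ IsKleinFour V₂ ∧
    (¬ ∃ g : G, V₂ = V₁.map (MulAut.conj g).toMonoidHom) ∧ ∀ W : Subgroup G, IsKleinFour W →
      (∃ g : G, W = V₁.map (MulAut.conj g).toMonoidHom) ∨
        (∃ g : G, W = V₂.map (MulAut.conj g).toMonoidHom) := by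
  obtain ⟨t, ht⟩ := exists_prime_orderOf_dvd_card' (G := G) 2 (by rw [h]; norm_num)
  obtain ⟨R, hR⟩ := dihInv h ht
  exact hR.two_classes (fun s t => swap h) (fun s t => rot h)

end H4.G168
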