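import Mathlib
import Cfsg.Agent.Base
import Cfsg.Agent.Lib.H4.Sieve2
import Cfsg.Agent.Lib.GL.Basic
import Cfsg.Agent.S0348

/-! Simple groups of order 504 and 4080 through the CIT theorem. -/

set_option autoImplicit false
open Cfsg Subgroup
open scoped MatrixGroups

namespace H4.Sv

variable {G : Type*} [Group G] [Finite G]

theorem cit_of_orders (h : ∀ r : ℕ, r.Prime → r ≠ 2 → r ∣ Nat.card G → ∀ g : G, 2 ∣ orderOf g →
    ¬ r ∣ orderOf g) (t : G) (ht : orderOf t = 2) : IsPGroup 2 (centralizer ({t} : Set G)) := by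
  refine IsPGroup.of_card (n := (Nat.card (centralizer ({t} : Set G))).primeFactorsList.length)
    (Nat.eq_prime_pow_of_unique_prime_dvd Nat.card_pos.ne' fun {r} hr hd => ?_)
  by_contra h2
  haveI := Fact.mk hr
  obtain ⟨y, hy⟩ := exists_prime_orderOf_dvd_card' r hd
  have hy' : orderOf (y : G) = r := by rw [orderOf_coe, hy]
  have hc : Commute (y : G) t := mem_centralizer_singleton_iff.1 y.2
  have ho := hc.orderOf_mul_eq_mul_orderOf_of_coprime
    (by rw [hy', ht]; exact (Nat.coprime_primes hr Nat.prime_two).2 h2)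
  rw [hy', ht] at ho
  exact h r hr h2 (hd.trans (card_subgroup_dvd_card _)) (y * t) (ho ▸ dvd_mul_left 2 r)
    (ho ▸ dvd_mul_right r 2)

theorem no_bising [IsSimpleGroup G] (hG : ¬ IsMulCommutative G) (p : ℕ) (hp : p.Prime) (hp2 : p ≠ 2)
    (h1 : p ∣ Nat.card G) (h2 : ¬ p ^ 2 ∣ Nat.card G) (q : ℕ) (hq : q.Prime) (hqp : q ≠ p)
    (h : chkOne (Nat.card G) p (fun _ _ c _ => c % q != 0) = true) (g : G) (hg : q ∣ orderOf g) :
    ¬ p ∣ orderOf g := by
  haveI := Fact.mk hp
  haveI := Fact.mk hq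
  obtain ⟨P⟩ : Nonempty (Sylow p G) := inferInstance
  have hP : Nat.card P = p := by
    simpa using H36.card_sylow_eq_pow P (k := 1) (by simpa using h1) h2
  obtain ⟨e, c, l, a1, -, a2, -⟩ := exists_data hG p hp2 P hP h
  exact not_dvd_orderOf_of_cent P hP a2 hqp
    (fun h => by simp [Nat.mod_eq_zero_of_dvd h] at a1) hg

theorem psl2_of_cit [IsSimpleGroup G] (hG : ¬ IsMulCommutative G)
    (hc : ∀ t : G, orderOf t = 2 → IsPGroup 2 (centralizer ({t} : Set G))) {F : Type*} [Field F]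
    [Fintype F] (hn : Nat.card G < 20160)
    (h : ∀ q, q * (q - 1) * (q + 1) = Nat.gcd 2 (q - 1) * Nat.card G → q = Fintype.card F) :
    Nonempty (G ≃* PSL(2, F)) := by
  have hna : ∃ a b : G, a * b ≠ b * a := by
    by_contra h; push Not at h; exact hG ⟨⟨h⟩⟩
  rcases Cfsg.Agent.S0348.result hna hc with ⟨K, _, _, -, ⟨e⟩⟩ | ⟨K, _, _, hK, ⟨e⟩⟩ | ⟨-, m, hm, h1⟩
  · have := H10.card_PSL_two (F := K)
    rw [← Nat.card_congr e.toEquiv, Nat.card_eq_fintype_card (α := K)] at this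
    exact ⟨e.trans (H10.pslCongr (FiniteField.ringEquivOfCardEq (h _ this.symm)))⟩
  · have := H10.card_PSL_fin (F := K) 3 (by norm_num)
    rw [← Nat.card_congr e.toEquiv, Nat.card_eq_fintype_card (α := K), hK] at this
    simp [Fin.prod_univ_three] at this
    omega
  · have h2 : 8 ≤ 2 ^ (2 * m + 1) := by
      calc 8 = 2 ^ 3 := rfl
        _ ≤ _ := Nat.pow_le_pow_right (by norm_num) (by omega)
    generalize 2 ^ (2 * m + 1) = q at h1 h2
    have h3 : 64 ≤ q ^ 2 := by nlinarith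
    have := Nat.mul_le_mul (Nat.mul_le_mul h3 (Nat.add_le_add_right h3 1)) (show 7 ≤ q - 1 by omega)
    omega

theorem cit_4080 [IsSimpleGroup G] (hG : ¬ IsMulCommutative G) (hn : Nat.card G = 4080) (t : G)
    (ht : orderOf t = 2) : IsPGroup 2 (centralizer ({t} : Set G)) := by
  refine cit_of_orders (fun r hr h2 hd => ?_) t ht
  have : r = 3 ∨ r = 5 ∨ r = 17 := by
    rw [hn, show 4080 = 2 ^ 4 * 3 * 5 * 17 by norm_num] at hd
    simp only [hr.dvd_mul] at hd
    rcases hd with ((h | h) | h) | h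
    · exact absurd ((Nat.prime_dvd_prime_iff_eq hr Nat.prime_two).1 (hr.dvd_of_dvd_pow h)) h2
    · exact Or.inl ((Nat.prime_dvd_prime_iff_eq hr (by norm_num)).1 h)
    · exact Or.inr (Or.inl ((Nat.prime_dvd_prime_iff_eq hr (by norm_num)).1 h))
    · exact Or.inr (Or.inr ((Nat.prime_dvd_prime_iff_eq hr (by norm_num)).1 h))
  rcases this with rfl | rfl | rfl <;>
    exact no_bising hG _ hr h2 hd (by rw [hn]; norm_num) 2 Nat.prime_two (by norm_num)
      (by rw [hn]; decide +kernel)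

theorem cit_504 [IsSimpleGroup G] (hG : ¬ IsMulCommutative G) (hn : Nat.card G = 504) (t : G)
    (ht : orderOf t = 2) : IsPGroup 2 (centralizer ({t} : Set G)) := by
  refine cit_of_orders (fun r hr h2 hd => ?_) t ht
  have : r = 3 ∨ r = 7 := by
    rw [hn, show 504 = 2 ^ 3 * 3 ^ 2 * 7 by norm_num] at hd
    simp only [hr.dvd_mul] at hd
    rcases hd with (h | h) | h
    · exact absurd ((Nat.prime_dvd_prime_iff_eq hr Nat.prime_two).1 (hr.dvd_of_dvd_pow h)) h2
    · exact Or.inl ((Nat.prime_dvd_prime_iff_eq hr (by norm_num)).1 (hr.dvd_of_dvd_pow h))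
    · exact Or.inr ((Nat.prime_dvd_prime_iff_eq hr (by norm_num)).1 h)
  have h7 := no_bising hG 7 (by norm_num) (by norm_num) (by rw [hn]; norm_num)
    (by rw [hn]; norm_num) 2 Nat.prime_two (by norm_num) (by rw [hn]; decide +kernel)
  rcases this with rfl | rfl
  · intro g hg2 hg3
    letI := Fintype.ofFinite G
    haveI : Fact (Nat.Prime 7) := ⟨by norm_num⟩
    obtain ⟨P⟩ : Nonempty (Sylow 7 G) := inferInstance
    have hP : Nat.card P = 7 :=
      H36.card_sylow_eq_pow P (k := 1) (by rw [hn]; norm_num) (by rw [hn]; norm_num)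
    obtain ⟨M, hM⟩ := H33.exists_isPModular 7
    obtain ⟨c, hc⟩ := exists_card_cent P hP
    obtain ⟨B⟩ := nonempty_B0 (H36.commutator_eq_top_of_simple hG) hM (by norm_num) P hP
    obtain ⟨l, hl, h1⟩ := chkOne_sound hG (by norm_num) P hP hM rfl hc B
      (C := fun _ _ _ l => l == [8]) (by rw [hn]; decide +kernel)
    rw [beq_iff_eq] at h1
    subst h1
    obtain ⟨θ, hθ⟩ := B.nonempty_Y (H36.relIndex_cent_dvd_prime (by norm_num) hP)
    have h3 := B.regY θ hθ g (h7 g hg2)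
    have h4 : charDegree (θ : G → ℂ) = 9 := by rw [← B.natAbs_D hθ, B0.D, ← hl]; rfl
    rw [H17.Ord.van_of_pow_dvd (p := 3) (k := 2) (by norm_num) (by rw [hn]; norm_num)
      (by rw [H17.Ord.dg, h4]; norm_num) hg3, Finset.sum_eq_zero] at h3
    · simp at h3
    · intro χ hχ
      have h5 : B.sd χ ∈ B.L := B.mem_L.2 ⟨χ, hχ, rfl⟩
      rw [← hl] at h5
      have h6 : B.sd χ = 8 := by simpa using h5
      have h7 := B.natAbs_sd hχ
      rw [h6] at h7
      rw [H17.Ord.van_of_pow_dvd (p := 2) (k := 3) (by norm_num) (by rw [hn]; norm_num)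
        (by rw [H17.Ord.dg, ← h7]; norm_num) hg2, mul_zero]
  · exact h7

end H4.Sv
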