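import Mathlib
import Cfsg.Agent.Lib.FGS.CycSylow
import Cfsg.Agent.Lib.H4.YM1

/-! Groups with cyclic Sylow `p`-subgroups and abelian `p'`-subgroups: local analysis. -/

set_option autoImplicit false
set_option linter.unusedSectionVars false

namespace H4.CyA

open Subgroup Cfsg H4.YM

variable {G : Type*} [Group G] [Finite G] {p : ℕ} [hp : Fact p.Prime]

/-- the hypothesis -/
structure Hy (p : ℕ) (G : Type*) [Group G] : Prop where
  cyc : ∀ P : Subgroup G, IsPGroup p P → IsCyclic P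
  ab : ∀ H : Subgroup G, ¬ p ∣ Nat.card H → ∀ a ∈ H, ∀ b ∈ H, a * b = b * a

/-- the conclusion -/
def Cn (p : ℕ) (G : Type*) [Group G] : Prop :=
  HasNormalPComplement p G ∨ ∀ P : Sylow p G, (P : Subgroup G).Normal

theorem Hy.sub (h : Hy p G) (H : Subgroup G) : Hy p H := by
  refine ⟨fun P hP => ?_, fun K hK a ha b hb => Subtype.ext ?_⟩
  · haveI := h.cyc _ (hP.map H.subtype)
    exact isCyclic_of_injective (equivMapOfInjective P _ H.subtype_injective).toMonoidHom
      (equivMapOfInjective P _ H.subtype_injective).injective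
  · exact h.ab (K.map H.subtype) (by rwa [card_map_of_injective H.subtype_injective]) a ⟨a, ha, rfl⟩
      b ⟨b, hb, rfl⟩

theorem Hy.quot (h : Hy p G) (N : Subgroup G) [N.Normal] (hN : ¬ p ∣ Nat.card N) :
    Hy p (G ⧸ N) := by
  refine ⟨fun P hP => ?_, fun K hK a ha b hb => ?_⟩
  · obtain ⟨Q, hQ⟩ := hP.exists_le_sylow
    obtain ⟨R, rfl⟩ := Sylow.mapSurjective_surjective (QuotientGroup.mk'_surjective N) p Q
    haveI := h.cyc R R.2
    haveI : IsCyclic ((R : Subgroup G).map (QuotientGroup.mk' N)) :=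
      isCyclic_of_surjective _ (MonoidHom.subgroupMap_surjective _ _)
    have hQ' : P ≤ (R : Subgroup G).map (QuotientGroup.mk' N) := hQ
    exact isCyclic_of_injective _ (inclusion_injective hQ')
  · obtain ⟨a, rfl⟩ := QuotientGroup.mk_surjective a
    obtain ⟨b, rfl⟩ := QuotientGroup.mk_surjective b
    rw [← QuotientGroup.mk_mul, ← QuotientGroup.mk_mul, h.ab (K.comap (QuotientGroup.mk' N)) ?_ a ha b hb]
    rw [H1.card_comap_mk']
    exact fun e => (hp.out.dvd_mul.1 e).elim hK hN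

theorem pow_ord {w : G} {k : ℕ} (hw : w ^ p ^ k = 1) (h1 : w ≠ 1) :
    ∃ x ∈ zpowers w, orderOf x = p := by
  obtain ⟨j, -, hj⟩ := (Nat.dvd_prime_pow hp.out).1 (orderOf_dvd_of_pow_eq_one hw)
  refine ⟨w ^ (orderOf w / p), npow_mem_zpowers _ _, orderOf_pow_orderOf_div (orderOf_pos w).ne' ?_⟩
  rcases j with _ | j
  · exact absurd (orderOf_eq_one_iff.1 hj) h1
  · rw [hj]; exact dvd_pow_self p (by omega)

theorem zp_eq {x y : G} (hx : orderOf x = p) (hy : y ∈ zpowers x) (h1 : y ≠ 1) :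
    zpowers y = zpowers x := by
  refine eq_of_le_of_card_ge (zpowers_le.2 hy) ?_
  have := orderOf_dvd_of_mem_zpowers hy
  rw [hx, Nat.dvd_prime hp.out, orderOf_eq_one_iff] at this
  rw [Nat.card_zpowers, Nat.card_zpowers, hx, this.resolve_left h1]

theorem pg_of {x : G} (hx : orderOf x = p) : IsPGroup p (zpowers x) :=
  IsPGroup.of_card (n := 1) (by rw [Nat.card_zpowers, hx, pow_one])

/-- a `p`-subgroup has at most one subgroup of order `p` -/
theorem Hy.zp (h : Hy p G) {P : Subgroup G} (hP : IsPGroup p P) {x y : G} (hx : x ∈ P) (hy : y ∈ P)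
    (ox : orderOf x = p) (oy : y ^ p = 1) : y ∈ zpowers x := by
  classical
  haveI := h.cyc P hP
  haveI := Fintype.ofFinite P
  have h1 := IsCyclic.card_pow_eq_one_le (α := P) hp.out.pos
  by_contra hn
  have h2 : (insert (⟨y, hy⟩ : P) (Finset.univ.filter fun a : P => (a : G) ∈ zpowers x)) ⊆
      Finset.univ.filter fun a : P => a ^ p = 1 := by
    intro a ha
    simp only [Finset.mem_insert, Finset.mem_filter, Finset.mem_univ, true_and] at ha ⊢
    rcases ha with rfl | ha
    · exact Subtype.ext oy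
    · exact Subtype.ext (orderOf_dvd_iff_pow_eq_one.1 (ox ▸ orderOf_dvd_of_mem_zpowers ha))
  have h3 := Finset.card_le_card h2
  rw [Finset.card_insert_of_notMem (by simpa using hn)] at h3
  have h4 : (Finset.univ.filter fun a : P => (a : G) ∈ zpowers x).card = p := by
    rw [← Fintype.card_subtype, ← Nat.card_eq_fintype_card]
    exact (Nat.card_congr (subgroupOfEquivOfLe (zpowers_le.2 hx)).toEquiv).trans
      (by rw [Nat.card_zpowers, ox])
  omega

theorem Hy.comm (h : Hy p G) {P : Subgroup G} (hP : IsPGroup p P) {x y : G} (hx : x ∈ P)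
    (hy : y ∈ P) : x * y = y * x := by
  haveI := h.cyc P hP
  exact congrArg Subtype.val (mul_comm' (⟨x, hx⟩ : P) ⟨y, hy⟩)

theorem not_dvd_sup {A : Subgroup G} [A.Normal] (hA : ¬ p ∣ Nat.card A) {k : G}
    (hk : (orderOf k).Coprime p) : ¬ p ∣ Nat.card (A ⊔ zpowers k : Subgroup G) := fun e => by
  rw [sup_comm] at e
  rcases hp.out.dvd_mul.1 (e.trans (H1.card_sup_dvd_of_normal (zpowers k) A)) with e | e
  · rw [Nat.card_zpowers] at e
    exact hp.out.one_lt.ne' (Nat.eq_one_of_dvd_coprimes hk e dvd_rfl)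
  · exact hA e

/-- a normal `p'`-subgroup is central unless there is a normal complement -/
theorem Hy.central (h : Hy p G) (hn : ¬ HasNormalPComplement p G) {A : Subgroup G} [A.Normal]
    (hA : ¬ p ∣ Nat.card A) {a : G} (ha : a ∈ A) (g : G) : a * g = g * a := by
  obtain ⟨P⟩ : Nonempty (Sylow p G) := inferInstance
  have h1 : pResidual p G ≤ centralizer (A : Set G) := H4.pResidual_le_iff.2 fun k hk b hb =>
    h.ab _ (not_dvd_sup hA hk) b (mem_sup_left hb) k (mem_sup_right (mem_zpowers k))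
  by_contra hc
  refine hn (H80.hasNormalPComplement_of_cycSylow_of_ne_top P (h.cyc _ P.2) fun e => hc ?_)
  exact h1 (e ▸ mem_top g) a ha

theorem normal_of_central {P A : Subgroup G} (hP : IsPGroup p P) (hA : ¬ p ∣ Nat.card A)
    (hc : ∀ a ∈ A, ∀ g, a * g = g * a) (h : ∀ g, ∀ x ∈ P, cj g x ∈ A ⊔ P) : P.Normal := by
  haveI : A.Normal := ⟨fun a ha g => by rwa [← hc a ha g, mul_inv_cancel_right]⟩
  refine ⟨fun x hx g => ?_⟩
  obtain ⟨a, ha, y, hy, e⟩ := mem_sup_of_normal_left.1 (h g x hx)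
  obtain ⟨k, hk⟩ := hP ⟨x, hx⟩
  obtain ⟨l, hl⟩ := hP ⟨y, hy⟩
  have hk' : x ^ p ^ k = 1 := congrArg Subtype.val hk
  have hl' : y ^ p ^ l = 1 := congrArg Subtype.val hl
  have h1 : a ^ p ^ (k + l) = 1 := by
    have : (a * y) ^ p ^ (k + l) = 1 := by
      rw [e, cj, conj_pow, pow_add, pow_mul, hk']; simp
    rwa [(show Commute a y from hc a ha y).mul_pow, add_comm, pow_add, pow_mul y, hl', one_pow,
      mul_one, ← pow_add, add_comm] at this
  have h2 : a = 1 := orderOf_eq_one_iff.1 (Nat.eq_one_of_dvd_coprimes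
    (Nat.Coprime.pow_right (k + l) (H4.not_dvd_card_iff_forall_coprime.1 hA a ha)) dvd_rfl
    (orderOf_dvd_of_pow_eq_one h1))
  rw [h2, one_mul] at e
  exact (e ▸ hy : cj g x ∈ P)

/-- a normal subgroup of order `p` -/
theorem Hy.loc (h : Hy p G) (hn : ¬ HasNormalPComplement p G) {x : G} (ox : orderOf x = p)
    (hx : ∀ g, cj g x ∈ zpowers x) : (∀ P : Sylow p G, (P : Subgroup G).Normal) ∧
      ∀ c, (orderOf c).Coprime p → c * x = x * c → ∀ g, c * g = g * c := by
  haveI : (zpowers x).Normal := ⟨by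
    rintro _ ⟨i, rfl⟩ g
    rw [← conj_zpow]; exact zpow_mem (hx g) i⟩
  have x1 : x ≠ 1 := fun e => hp.out.one_lt.ne' (by rw [← ox, e, orderOf_one])
  let C := centralizer (zpowers x : Set G)
  have mC : ∀ {c}, c ∈ C ↔ c * x = x * c := fun {c} =>
    ⟨fun e => (e x (mem_zpowers x)).symm, fun e => by
      rintro _ ⟨i, rfl⟩; exact (Commute.zpow_right e i).symm⟩
  have hxP : ∀ P : Sylow p G, x ∈ (P : Subgroup G) := fun P =>
    (pg_of ox).le_sylow_of_normal P (mem_zpowers x)
  have hPC : ∀ P : Sylow p G, (P : Subgroup G) ≤ C := fun P y hy => mC.2 (h.comm P.2 hy (hxP P))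
  obtain ⟨P₀⟩ : Nonempty (Sylow p G) := inferInstance
  have hC : HasNormalPComplement p C := H80.hasNormalPComplement_of_cycSylow_of_center
    (P₀.subtype (hPC P₀)) ((h.sub C).cyc _ (P₀.subtype (hPC P₀)).2) fun e => x1 (by
      have : (⟨x, mC.2 rfl⟩ : C) ∈ ((P₀.subtype (hPC P₀) : Subgroup C) ⊓ center C) :=
        ⟨hxP P₀, mem_center_iff.2 fun g => Subtype.ext (mC.1 g.2)⟩
      rw [e] at this
      exact congrArg Subtype.val (mem_bot.1 this))
  haveI := H4.pResidual_characteristic p C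
  let D := (pResidual p C).map C.subtype
  have hD : ¬ p ∣ Nat.card D := (H4.hasNormalPComplement_iff_card_map C).1 hC
  have hc := fun a (ha : a ∈ D) => h.central hn hD ha
  refine ⟨fun P => normal_of_central P.2 hD hc fun g y hy => ?_, fun c co e => hc c
    ⟨⟨c, mC.2 e⟩, H4.mem_pResidual_of_coprime (by rwa [← orderOf_coe]), rfl⟩⟩
  have h1 := (H4.isComplement'_pResidual hC (P.subtype (hPC P))).sup_eq_top
  have h2 : (⟨cj g y, (inferInstance : C.Normal).conj_mem _ (hPC P hy) g⟩ : C) ∈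
      pResidual p C ⊔ (P.subtype (hPC P) : Subgroup C) := h1 ▸ mem_top _
  have h3 := mem_map_of_mem C.subtype h2
  rw [Subgroup.map_sup] at h3
  have h4 : (P.subtype (hPC P) : Subgroup C).map C.subtype ≤ P := by
    rintro _ ⟨z, hz, rfl⟩; exact hz
  exact (sup_le_sup_left h4 D) h3

end H4.CyA
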