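import Mathlib
import Cfsg.Agent.Lib.H4.CyA1
import Cfsg.Agent.Lib.H71.Sidki

/-! Groups with cyclic Sylow `p`-subgroups and abelian `p'`-subgroups: the simple case. -/

set_option autoImplicit false
set_option linter.unusedSectionVars false

namespace H4.CyA

open Subgroup Cfsg H4.YM

variable {G : Type*} [Group G] [Finite G] {p : ℕ} [hp : Fact p.Prime]

theorem dvd_ncard {x : G} (hx : x ^ p = 1) {T : Set G} (h1 : ∀ s ∈ T, cj x s ∈ T)
    (h2 : ∀ s ∈ T, cj x s ≠ s) : p ∣ T.ncard := by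
  classical
  haveI := Fintype.ofFinite T
  let f : Function.End T := fun s => ⟨cj x s, h1 s s.2⟩
  have hf : ∀ n (s : T), ((f ^ n) s : G) = cj (x ^ n) s := by
    intro n
    induction n with
    | zero => intro s; rw [pow_zero, pow_zero, one_cj]; rfl
    | succ n ih => intro s; rw [pow_succ', pow_succ', mul_cj, ← ih]; rfl
  have h3 := Equiv.Perm.card_fixedPoints_modEq (f := f) (p := p) (n := 1) (by
    funext s; exact Subtype.ext (by rw [hf, pow_one, hx, one_cj]; rfl))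
  have h4 : Fintype.card f.fixedPoints = 0 := Fintype.card_eq_zero_iff.2 ⟨fun s =>
    h2 _ s.1.2 (congrArg Subtype.val s.2)⟩
  rw [h4] at h3
  rw [← Nat.card_coe_set_eq, Nat.card_eq_fintype_card]
  exact (Nat.modEq_zero_iff_dvd).1 h3

theorem friend {V : Type*} [Finite V] [Nonempty V] (adj : V → V → Prop) (k : ℕ) (hk : 3 ≤ k)
    (irr : ∀ a, ¬ adj a a) (sym : ∀ a b, adj a b → adj b a) (deg : ∀ a, {b | adj a b}.ncard = k)
    (one : ∀ a b, a ≠ b → ∃! c, adj a c ∧ adj c b) : False := by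
  classical
  haveI := Fintype.ofFinite V
  obtain ⟨q, hq, hd⟩ := Nat.exists_prime_and_dvd (n := k - 1) (by omega)
  haveI := Fact.mk hq
  have k1 : (k : ZMod q) = 1 := by
    have := (ZMod.natCast_eq_zero_iff _ _).2 hd
    rw [Nat.cast_sub (by omega), Nat.cast_one] at this
    exact sub_eq_zero.1 this
  let A : Matrix V V (ZMod q) := Matrix.of fun a b => if adj a b then 1 else 0
  let J : Matrix V V (ZMod q) := Matrix.of fun _ _ => 1
  have cnt : ∀ (P : V → Prop) [DecidablePred P], ∑ b, (if P b then (1 : ZMod q) else 0) =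
      ({b | P b}.ncard : ℕ) := fun P _ => by
    rw [Finset.sum_boole, Set.ncard_eq_toFinset_card', Set.toFinset_setOf]
  have AJ : A * J = J := by
    ext a b
    simp only [Matrix.mul_apply, A, J, Matrix.of_apply, mul_one]
    rw [cnt, deg, k1]
  have AA : A * A = J := by
    ext a b
    simp only [Matrix.mul_apply, A, J, Matrix.of_apply, ite_zero_mul_ite_zero, mul_one]
    rw [cnt]
    by_cases e : a = b
    · subst e
      rw [show {c | adj a c ∧ adj c a} = {c | adj a c} from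
        Set.ext fun c => ⟨fun h => h.1, fun h => ⟨h, sym _ _ h⟩⟩, deg, k1]
    · obtain ⟨c, h1, h2⟩ := one a b e
      rw [show {c | adj a c ∧ adj c b} = {c} from Set.ext fun d => ⟨h2 d, fun h => h ▸ h1⟩]
      simp
  have pw : ∀ n, A ^ (n + 2) = J := fun n => by
    induction n with
    | zero => rw [pow_two, AA]
    | succ n ih => rw [pow_succ', ih, AJ]
  have t0 : A.trace = 0 := by simp [Matrix.trace, A, irr]
  have t1 := ZMod.trace_pow_card A
  obtain ⟨n, rfl⟩ : ∃ n, q = n + 2 := ⟨q - 2, by have := hq.two_le; omega⟩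
  rw [pw, t0, zero_pow (by omega)] at t1
  have JJ : J * J = J := by rw [← AA, Matrix.mul_assoc A A (A * A), AA, AJ, AJ]
  obtain ⟨a⟩ := ‹Nonempty V›
  have := congrFun (congrFun JJ a) a
  simp only [Matrix.mul_apply, J, Matrix.of_apply, mul_one] at this
  simp only [Matrix.trace, Matrix.diag, J, Matrix.of_apply] at t1
  exact one_ne_zero (this.symm.trans t1)

/-- the simple configuration -/
structure Sp (p : ℕ) (G : Type*) [Group G] : Prop extends Hy p G where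
  odd : p ≠ 2
  ih : ∀ d : G, d ≠ 1 → Cn p (centralizer ({d} : Set G))
  o2 : pCore 2 G = ⊥
  n2 : ¬ HasNormalPComplement 2 G

theorem cop2 (h : p ≠ 2) {s : G} {k : ℕ} (hs : s ^ 2 ^ k = 1) : (orderOf s).Coprime p :=
  Nat.Coprime.coprime_dvd_left (orderOf_dvd_of_pow_eq_one hs)
    (Nat.Coprime.pow_left k ((Nat.coprime_primes Nat.prime_two hp.out).2 h.symm))

theorem cop2' (h : p ≠ 2) {s : G} (hs : s * s = 1) : (orderOf s).Coprime p :=
  cop2 h (k := 1) (by rwa [pow_one, pow_two])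

theorem eq_one_of_cop {s : G} {k : ℕ} (h : (orderOf s).Coprime p) (hs : s ^ p ^ k = 1) : s = 1 :=
  orderOf_eq_one_iff.1 (Nat.eq_one_of_dvd_coprimes (Nat.Coprime.pow_right k h) dvd_rfl
    (orderOf_dvd_of_pow_eq_one hs))

theorem ppow {x : G} (ox : orderOf x = p) : x ^ p ^ 1 = 1 := by
  rw [pow_one, ← ox, pow_orderOf_eq_one]

theorem ne_one {x : G} (ox : orderOf x = p) : x ≠ 1 :=
  fun e => hp.out.one_lt.ne' (by rw [← ox, e, orderOf_one])

theorem ord_cj (g x : G) : orderOf (cj g x) = orderOf x :=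
  (MulAut.conj g).orderOf_eq x

/-- the normaliser of `⟨x⟩` -/
abbrev Nx (x : G) : Subgroup G := normalizer (zpowers x : Set G)

theorem mem_Nx {x g : G} : g ∈ Nx x ↔ cj g x ∈ zpowers x := by
  rw [mem_norm]
  refine ⟨fun h => h x (mem_zpowers x), fun h => ?_⟩
  rintro _ ⟨i, rfl⟩
  rw [cj, ← conj_zpow]; exact zpow_mem h i

theorem mem_Nx_of {x g : G} (h : cj g x = x) : g ∈ Nx x := mem_Nx.2 (h.symm ▸ mem_zpowers x)

theorem mem_Nx_inv {x g : G} (h : cj g x = x⁻¹) : g ∈ Nx x :=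
  mem_Nx.2 (h ▸ inv_mem (mem_zpowers x))

namespace Sp

variable (h : Sp p G)
include h

theorem ne_inv {x : G} (ox : orderOf x = p) : x ≠ x⁻¹ := fun e =>
  ne_one ox (eq_one_of_cop (cop2' h.odd (mul_eq_one_iff_eq_inv.2 e)) (ppow ox))

theorem dih {t u : G} (ht : t * t = 1) (hu : cj t u = u⁻¹) (hr : (orderOf u).Prime)
    (h2 : u * u ≠ 1) : orderOf u = p := by
  by_contra hn
  have h1 : ∀ k ∈ zpowers u, cj t k ∈ zpowers u := mem_norm.1 (mem_Nx_inv hu)
  have key : t * u = u * t := by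
    by_cases h0 : t ∈ zpowers u
    · obtain ⟨i, rfl⟩ := h0
      exact (Commute.zpow_self u i).eq
    · refine h.ab (adj (zpowers u) t) ?_ t self_mem_adj u (le_adj (mem_zpowers u))
      rw [(idx_adj h0 h1 (ht ▸ one_mem _)).card, Nat.card_zpowers, hp.out.dvd_mul,
        Nat.prime_dvd_prime_iff_eq hp.out hr, Nat.prime_dvd_prime_iff_eq hp.out Nat.prime_two]
      exact fun e => e.elim h.odd fun e => hn e.symm
  rw [cj_eq_iff.2 key] at hu
  exact h2 (mul_eq_one_iff_eq_inv.2 hu)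

theorem inv0 {t : G} (ht : t * t = 1) (t1 : t ≠ 1) : ∃ x, orderOf x = p ∧ cj t x = x⁻¹ := by
  obtain ⟨w, w1, wo, e⟩ := H71.exists_inverted_of_not_mem_pCore ht (by rw [h.o2]; exact t1)
  obtain ⟨r, hr, hd⟩ := Nat.exists_prime_and_dvd (mt orderOf_eq_one_iff.1 w1)
  have o := orderOf_pow_orderOf_div (orderOf_pos w).ne' hd
  have e' : cj t (w ^ (orderOf w / r)) = (w ^ (orderOf w / r))⁻¹ := by
    rw [cj, ← conj_pow, e, inv_pow]
  refine ⟨_, h.dih ht e' (by rwa [o]) fun e2 => ?_, e'⟩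
  have := orderOf_dvd_of_pow_eq_one ((pow_two _).trans e2)
  rw [o, Nat.prime_dvd_prime_iff_eq hr Nat.prime_two] at this
  exact (Nat.not_even_iff_odd.2 wo) (even_iff_two_dvd.2 (this ▸ hd))

theorem exists_inv : ∃ t : G, t * t = 1 ∧ t ≠ 1 := by
  have : 2 ∣ Nat.card G := by
    by_contra e
    exact h.n2 (H4.hasNormalPComplement_of_not_dvd e)
  obtain ⟨t, ht⟩ := exists_prime_orderOf_dvd_card' 2 this
  exact ⟨t, by rw [← pow_two, ← ht, pow_orderOf_eq_one], fun e => by simp [e] at ht⟩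

theorem conj {x y : G} (ox : orderOf x = p) (oy : orderOf y = p) :
    ∃ g, zpowers (cj g x) = zpowers y := by
  obtain ⟨P, hP⟩ := (pg_of oy).exists_le_sylow
  obtain ⟨g, -, hg⟩ := H4.exists_conj_le_sylow_of_le P le_top (pg_of ox) le_top
  have o := (ord_cj g x).trans ox
  exact ⟨g, zp_eq oy (h.zp P.2 (hP (mem_zpowers y)) (hg x (mem_zpowers x)) oy
    (by rw [← pow_one p]; exact ppow o)) (ne_one o)⟩

theorem inv {x : G} (ox : orderOf x = p) : ∃ t, t * t = 1 ∧ cj t x = x⁻¹ := by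
  obtain ⟨t, ht, t1⟩ := h.exists_inv
  obtain ⟨y, oy, e⟩ := h.inv0 ht t1
  obtain ⟨g, hg⟩ := h.conj oy ox
  obtain ⟨i, rfl⟩ := hg.ge (mem_zpowers x)
  refine ⟨cj g t, cj_sq ht, ?_⟩
  simp only
  rw [cj, ← conj_zpow, ← cj, cj_cj, e, cj_inv, inv_zpow]

theorem not_npc {x : G} (ox : orderOf x = p) {K : Subgroup G} (hK : Nx x ≤ K) :
    ¬ HasNormalPComplement p K := fun e => by
  obtain ⟨t, ht, e'⟩ := h.inv ox
  have := H4.mem_centralizer_of_hasNormalPComplement e (pg_of ox) (le_normalizer.trans hK)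
    (hK (mem_Nx_inv e')) (mem_Nx_inv e') (cop2' h.odd ht) x (mem_zpowers x)
  exact h.ne_inv ox ((cj_eq_iff.2 this.symm).symm.trans e')

theorem locN {x : G} (ox : orderOf x = p) : (∀ P : Sylow p (Nx x), (P : Subgroup (Nx x)).Normal) ∧
    ∀ c, (orderOf c).Coprime p → cj c x = x → ∀ g ∈ Nx x, cj g c = c := by
  obtain ⟨h1, h2⟩ := (h.toHy.sub (Nx x)).loc (h.not_npc ox le_rfl)
    (x := ⟨x, le_normalizer (mem_zpowers x)⟩) (by rw [← orderOf_coe, ox]) fun g => by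
      obtain ⟨i, hi⟩ := mem_Nx.1 g.2
      exact ⟨i, Subtype.ext (by simpa [cj] using hi)⟩
  exact ⟨h1, fun c co e g hg => cj_eq_iff.2 (congrArg Subtype.val (h2 ⟨c, mem_Nx_of e⟩
    (by rwa [← orderOf_coe]) (Subtype.ext (cj_eq_iff.1 e)) ⟨g, hg⟩)).symm⟩

omit h in
theorem pelts {K : Subgroup G} (hK : ∀ P : Sylow p K, (P : Subgroup K).Normal) :
    ∃ Q : Subgroup G, IsPGroup p Q ∧ ∀ w ∈ K, ∀ k, w ^ p ^ k = 1 → w ∈ Q := by
  obtain ⟨P⟩ : Nonempty (Sylow p K) := inferInstance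
  refine ⟨(P : Subgroup K).map K.subtype, P.2.map _, fun w hw k e => ⟨⟨w, hw⟩, ?_, rfl⟩⟩
  haveI := hK P
  haveI := Sylow.unique_of_normal P (hK P)
  obtain ⟨Q, hQ⟩ := (show IsPGroup p (zpowers (⟨w, hw⟩ : K)) from by
    rintro ⟨_, i, rfl⟩
    refine ⟨k, Subtype.ext (Subtype.ext ?_)⟩
    show (w ^ i) ^ p ^ k = 1
    rw [← zpow_natCast, ← zpow_mul, mul_comm, zpow_mul, zpow_natCast, e, one_zpow]).exists_le_sylow
  exact Subsingleton.elim Q P ▸ hQ (mem_zpowers _)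

theorem syl {x w : G} (ox : orderOf x = p) (hw : w ∈ Nx x) {k : ℕ} (e : w ^ p ^ k = 1) (w1 : w ≠ 1) :
    x ∈ zpowers w := by
  obtain ⟨Q, hQ, hm⟩ := pelts (h.locN ox).1
  obtain ⟨y, hy, oy⟩ := pow_ord e w1
  exact zpowers_le.2 hy (h.zp hQ (zpowers_le.2 (hm w hw k e) hy)
    (hm x (le_normalizer (mem_zpowers x)) 1 (ppow ox)) oy (by rw [← ox, pow_orderOf_eq_one]))

theorem cen {x d : G} (ox : orderOf x = p) (d1 : d ≠ 1) (co : (orderOf d).Coprime p)
    (e : cj d x = x) {g : G} : cj g d = d ↔ g ∈ Nx x := by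
  refine ⟨fun hg => ?_, (h.locN ox).2 d co e g⟩
  obtain ⟨Q, hQ, hm⟩ := pelts ((h.ih d d1).resolve_left
    (h.not_npc ox fun g hg => mem_cen.2 ((h.locN ox).2 d co e g hg)))
  have hx : x ∈ centralizer ({d} : Set G) := mem_cen.2 (cj_comm.1 e)
  exact mem_Nx.2 (h.zp hQ (hm x hx 1 (ppow ox)) (hm _ (cj_mem (mem_cen.2 hg) hx) 1
    (ppow ((ord_cj g x).trans ox))) ox (by rw [← ox, ← ord_cj g x, pow_orderOf_eq_one]))

theorem comm2 (S : Sylow 2 G) {a b : G} (ha : a ∈ (S : Subgroup G)) (hb : b ∈ (S : Subgroup G)) :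
    a * b = b * a := by
  refine h.ab S (fun e => ?_) a ha b hb
  obtain ⟨n, hn⟩ := IsPGroup.iff_card.1 S.2
  rw [hn] at e
  exact h.odd ((Nat.prime_dvd_prime_iff_eq hp.out Nat.prime_two).1 (hp.out.dvd_of_dvd_pow e))

theorem cop (S : Sylow 2 G) {a : G} (ha : a ∈ (S : Subgroup G)) : (orderOf a).Coprime p := by
  obtain ⟨k, hk⟩ := S.2 ⟨a, ha⟩
  exact cop2 h.odd (congrArg Subtype.val hk)

theorem exists_y (S : Sylow 2 G) : ∃ y, orderOf y = p ∧ (∀ s ∈ (S : Subgroup G), cj y s ∈ (S : Subgroup G)) ∧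
    ∃ s ∈ (S : Subgroup G), cj y s ≠ s := by
  have h1 : ¬ normalizer ((S : Subgroup G) : Set G) ≤ centralizer ((S : Subgroup G) : Set G) :=
    fun e => h.n2 (H4.hasNormalPComplement_of_normalizer_le_centralizer S e)
  obtain ⟨q, hq, g, hg, ⟨k, hk⟩, hn⟩ : ∃ q : ℕ, q.Prime ∧ ∃ g ∈ normalizer ((S : Subgroup G) : Set G),
      (∃ k : ℕ, g ^ q ^ k = 1) ∧ g ∉ centralizer ((S : Subgroup G) : Set G) := by
    by_contra e
    push Not at e
    exact h1 (H4.le_of_forall_prime_pow fun q hq _ x hx hk => e q hq x hx hk)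
  obtain rfl : q = p := by
    by_contra e
    refine hn fun s hs => h.ab (zpowers g ⊔ S) (fun e2 => ?_) s (mem_sup_right hs) g
      (mem_sup_left (mem_zpowers g))
    rcases hp.out.dvd_mul.1 (e2.trans (H1.card_sup_dvd_of_le_normalizer (zpowers_le.2 hg))) with e3 | e3
    · rw [Nat.card_zpowers] at e3
      exact e ((Nat.prime_dvd_prime_iff_eq hp.out hq).1
        (hp.out.dvd_of_dvd_pow (e3.trans (orderOf_dvd_of_pow_eq_one hk)))).symm
    · obtain ⟨n, hn⟩ := IsPGroup.iff_card.1 S.2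
      rw [hn] at e3
      exact h.odd ((Nat.prime_dvd_prime_iff_eq hp.out Nat.prime_two).1 (hp.out.dvd_of_dvd_pow e3))
  obtain ⟨y, hy, oy⟩ := pow_ord hk (fun e => hn (e ▸ one_mem _))
  refine ⟨y, oy, mem_norm.1 (zpowers_le.2 hg hy), ?_⟩
  by_contra e
  push Not at e
  refine hn fun s hs => (cj_eq_iff.1 ((h.locN oy).2 s (h.cop S hs) (cj_comm.1 (e s hs)) g
    (mem_Nx_of ?_))).symm
  obtain ⟨i, rfl⟩ := hy
  exact cj_eq_iff.2 (Commute.self_zpow g i).eq

theorem pm {x s : G} (ox : orderOf x = p) (hs : s * s = 1) (hn : s ∈ Nx x) :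
    cj s x = x ∨ cj s x = x⁻¹ := by
  by_cases e : x * cj s x = 1
  · exact .inr (eq_inv_of_mul_eq_one_right e)
  left
  have h1 := mem_Nx.1 hn
  have h2 : cj s (x * cj s x) = x * cj s x := by
    rw [cj_mul, ← mul_cj, hs, one_cj]
    exact h.comm (pg_of ox) h1 (mem_zpowers x)
  obtain ⟨i, hi⟩ := (zp_eq ox (mul_mem (mem_zpowers x) h1) e).ge (mem_zpowers x)
  simp only at hi
  rw [← hi, cj, ← conj_zpow, ← cj, h2]

end Sp

end H4.CyA
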