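import Mathlib
import Cfsg.Agent.Lib.H4.CyA2
import Cfsg.Agent.S0205
import Cfsg.Agent.Lib.Transfer.HSub

/-! Groups with cyclic Sylow `p`-subgroups and abelian `p'`-subgroups: counting involutions. -/

set_option autoImplicit false
set_option linter.unusedSectionVars false

namespace H4.CyA

open Subgroup Cfsg H4.YM

variable {G : Type*} [Group G] [Finite G] {p : ℕ} [hp : Fact p.Prime]

theorem ppow_of {c : G} (h : ∀ u ∈ zpowers c, (orderOf u).Prime → orderOf u = p) :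
    ∃ k, c ^ p ^ k = 1 := by
  refine ⟨_, orderOf_dvd_iff_pow_eq_one.1 (Nat.eq_prime_pow_of_unique_prime_dvd (p := p)
    (orderOf_pos c).ne' fun {r} hr hd => ?_).dvd⟩
  have o := orderOf_pow_orderOf_div (orderOf_pos c).ne' hd
  exact o.symm.trans (h _ (npow_mem_zpowers _ _) (by rwa [o]))

theorem cj_zp {t c u e : G} (he : e = c ∨ e = c⁻¹) (h : cj t c = e) (hu : u ∈ zpowers c) :
    (e = c → cj t u = u) ∧ (e = c⁻¹ → cj t u = u⁻¹) := by
  obtain ⟨i, rfl⟩ := hu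
  constructor <;> rintro rfl <;> simp only
  · rw [cj, ← conj_zpow, ← cj, h]
  · rw [cj, ← conj_zpow, ← cj, h, inv_zpow]

theorem zp_fix {t c u : G} (h : cj t c = c) (hu : u ∈ zpowers c) : cj t u = u :=
  (cj_zp (.inl rfl) h hu).1 rfl

theorem zp_inv {t c u : G} (h : cj t c = c⁻¹) (hu : u ∈ zpowers c) : cj t u = u⁻¹ :=
  (cj_zp (.inr rfl) h hu).2 rfl

theorem inv_mul {t s : G} (ht : t * t = 1) (hs : s * s = 1) :
    cj t (t * s) = (t * s)⁻¹ ∧ cj s (t * s) = (t * s)⁻¹ := by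
  have e1 := inv_eq_of_mul_eq_one_right ht
  have e2 := inv_eq_of_mul_eq_one_right hs
  constructor
  · rw [cj, mul_inv_rev, e1, e2, ← mul_assoc, ht, one_mul]
  · rw [cj, mul_inv_rev, e1, e2, mul_assoc, mul_assoc, hs, mul_one]

theorem mem_syl2 (S : Sylow 2 G) {s : G} (hs : s * s = 1)
    (h : ∀ a ∈ (S : Subgroup G), s * a = a * s) : s ∈ (S : Subgroup G) := by
  have h1 : IsPGroup 2 (zpowers s) := IsPGroup.of_card_dvd_pow (n := 1) (by
    rw [Nat.card_zpowers]; exact orderOf_dvd_of_pow_eq_one (by rwa [pow_one, pow_two]))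
  have h2 : zpowers s ≤ normalizer ((S : Subgroup G) : Set G) :=
    zpowers_le.2 (mem_norm.2 fun a ha => by rwa [cj_eq_iff.2 (h a ha)])
  have := S.3 (S.2.to_sup_of_normal_left' h1 h2) le_sup_left
  exact this ▸ mem_sup_right (mem_zpowers s)

theorem syl2_of {s : G} (hs : s * s = 1) : ∃ S : Sylow 2 G, s ∈ (S : Subgroup G) := by
  obtain ⟨S, hS⟩ := (IsPGroup.of_card_dvd_pow (G := zpowers s) (p := 2) (n := 1) (by
    rw [Nat.card_zpowers]
    exact orderOf_dvd_of_pow_eq_one (by rwa [pow_one, pow_two]))).exists_le_sylow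
  exact ⟨S, hS (mem_zpowers s)⟩

namespace Sp

variable (h : Sp p G)
include h

theorem uniq {w : G} (w1 : w ≠ 1) {Q R : Sylow p G} (hQ : w ∈ (Q : Subgroup G))
    (hR : w ∈ (R : Subgroup G)) : Q = R := by
  obtain ⟨k, hk⟩ := Q.2 ⟨w, hQ⟩
  obtain ⟨x, hx, ox⟩ := pow_ord (congrArg Subtype.val hk : w ^ p ^ k = 1) w1
  obtain ⟨T, hT, hm⟩ := pelts (h.locN ox).1
  have key : ∀ Q : Sylow p G, w ∈ (Q : Subgroup G) → T = Q := fun Q hQ => Q.3 hT fun v hv => by
    obtain ⟨k, hk⟩ := Q.2 ⟨v, hv⟩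
    exact hm v (mem_Nx_of (cj_eq_iff.2 (h.comm Q.2 hv (zpowers_le.2 hQ hx)))) k
      (congrArg Subtype.val hk)
  exact Sylow.ext ((key Q hQ).symm.trans (key R hR))

theorem mem_syl {x w : G} (ox : orderOf x = p) {Q : Sylow p G} (hQ : x ∈ (Q : Subgroup G))
    (hw : w ∈ Nx x) {k : ℕ} (e : w ^ p ^ k = 1) : w ∈ (Q : Subgroup G) := by
  by_cases w1 : w = 1
  · exact w1 ▸ one_mem _
  obtain ⟨R, hR⟩ := (IsPGroup.of_card_dvd_pow (G := zpowers w) (p := p) (n := k) (by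
    rw [Nat.card_zpowers]; exact orderOf_dvd_of_pow_eq_one e)).exists_le_sylow
  rw [h.uniq (ne_one ox) hQ (hR (h.syl ox hw e w1))]
  exact hR (mem_zpowers w)

theorem caseA (hA : ∀ d x : G, d * d = 1 → d ≠ 1 → orderOf x = p → cj x d ≠ d) : False := by
  classical
  have nd : ∀ d : G, d * d = 1 → d ≠ 1 → ¬ p ∣ Nat.card (centralizer ({d} : Set G)) :=
    fun d h1 h2 e => by
      obtain ⟨x, hx⟩ := exists_prime_orderOf_dvd_card' p e
      exact hA d x h1 h2 (by rwa [orderOf_coe]) (mem_cen.1 x.2)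
  obtain ⟨t, ht, t1⟩ := h.exists_inv
  obtain ⟨S, hS⟩ := syl2_of ht
  obtain ⟨y, oy, hy, -⟩ := h.exists_y S
  obtain ⟨x, ox, tx⟩ := h.inv0 ht t1
  let I : Set G := {s | s * s = 1 ∧ s ≠ 1}
  have d1 : p ∣ I.ncard := dvd_ncard (x := x) (by rw [← ox, pow_orderOf_eq_one])
    (fun s hs => ⟨cj_sq hs.1, mt cj_eq_one.1 hs.2⟩) fun s hs => hA s x hs.1 hs.2 ox
  have d2 : p ∣ (I ∩ S).ncard := dvd_ncard (x := y) (by rw [← oy, pow_orderOf_eq_one])
    (fun s hs => ⟨⟨cj_sq hs.1.1, mt cj_eq_one.1 hs.1.2⟩, hy s hs.2⟩) fun s hs =>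
      hA s y hs.1.1 hs.1.2 oy
  have d3 : p ∣ (I \ S).ncard := by
    rw [← Set.ncard_inter_add_ncard_diff_eq_ncard I S] at d1
    exact (Nat.dvd_add_right d2).1 d1
  have sq : ∀ {u : G}, (orderOf u).Prime → u ≠ 1 := fun hu e => by simp [e] at hu; exact Nat.not_prime_one hu
  let X : Set (Sylow p G) := {Q | ∀ w ∈ (Q : Subgroup G), cj t w = w⁻¹}
  have hX : ∀ w, w ≠ 1 → cj t w = w⁻¹ → ∀ Q : Sylow p G, w ∈ (Q : Subgroup G) → Q ∈ X := by
    intro w w1 e Q hw v hv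
    obtain ⟨k, hk⟩ := Q.2 ⟨w, hw⟩
    obtain ⟨z, hz, oz⟩ := pow_ord (congrArg Subtype.val hk : w ^ p ^ k = 1) w1
    have hzQ := zpowers_le.2 hw hz
    obtain ⟨l, hl⟩ := Q.2 ⟨v, hv⟩
    have h1 : cj t v ∈ (Q : Subgroup G) := h.mem_syl oz hzQ (cj_mem (mem_Nx_inv (zp_inv e hz))
      (mem_Nx_of (cj_eq_iff.2 (h.comm Q.2 hv hzQ)))) (k := l) (by
        rw [cj, conj_pow, show v ^ p ^ l = 1 from congrArg Subtype.val hl]; simp)
    by_contra hn
    obtain ⟨m, hm⟩ := Q.2 ⟨_, mul_mem hv h1⟩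
    obtain ⟨u, hu, ou⟩ := pow_ord (congrArg Subtype.val hm : (v * cj t v) ^ p ^ m = 1)
      fun e => hn (eq_inv_of_mul_eq_one_right e)
    refine hA t u ht t1 ou (cj_comm.1 (zp_fix ?_ hu))
    rw [cj_mul, ← mul_cj, ht, one_cj]
    exact h.comm Q.2 h1 hv
  have e1 : (I \ S) = (fun w => t * w) '' (⋃ Q ∈ X, ((Q : Subgroup G) : Set G) \ {1}) := by
    ext s
    simp only [Set.mem_image, Set.mem_iUnion, Set.mem_diff, Set.mem_singleton_iff, SetLike.mem_coe]
    constructor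
    · rintro ⟨⟨hs, s1⟩, hn⟩
      have w1 : t * s ≠ 1 := fun e => hn (by
        rw [eq_inv_of_mul_eq_one_right e]; exact inv_mem hS)
      obtain ⟨k, hk⟩ := ppow_of (p := p) (c := t * s) fun u hu pu =>
        h.dih ht (zp_inv (inv_mul ht hs).1 hu) pu fun e => hn (by
          have e' : u⁻¹ = u := inv_eq_of_mul_eq_one_right e
          have c1 := h.ab _ (nd u e (sq pu)) s (mem_cen.2 ((zp_inv (inv_mul ht hs).2 hu).trans e')) t
            (mem_cen.2 ((zp_inv (inv_mul ht hs).1 hu).trans e'))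
          exact mem_syl2 S hs fun a ha => h.ab _ (nd t ht t1) s (mem_cen.2 (cj_eq_iff.2 c1)) a
            (mem_cen.2 (cj_eq_iff.2 (h.comm2 S ha hS))))
      obtain ⟨R, hR⟩ := (IsPGroup.of_card_dvd_pow (G := zpowers (t * s)) (p := p) (n := k) (by
        rw [Nat.card_zpowers]; exact orderOf_dvd_of_pow_eq_one hk)).exists_le_sylow
      exact ⟨t * s, ⟨R, hX _ w1 (inv_mul ht hs).1 R (hR (mem_zpowers _)), hR (mem_zpowers _), w1⟩,
        by rw [← mul_assoc, ht, one_mul]⟩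
    · rintro ⟨w, ⟨Q, hQ, hw, w1⟩, rfl⟩
      obtain ⟨k, hk⟩ := Q.2 ⟨w, hw⟩
      have n1 : w ∉ (S : Subgroup G) := fun e =>
        w1 (eq_one_of_cop (h.cop S e) (congrArg Subtype.val hk : w ^ p ^ k = 1))
      refine ⟨⟨?_, fun e => n1 ?_⟩, fun e => n1 ((mul_mem_cancel_left hS).1 e)⟩
      · have := hQ w hw
        rw [cj, inv_eq_of_mul_eq_one_right ht] at this
        rw [← mul_assoc, this, inv_mul_cancel]
      · rw [eq_inv_of_mul_eq_one_right e]; exact inv_mem hS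
  obtain ⟨Q₀, hQ₀⟩ := (pg_of ox).exists_le_sylow
  have xQ := hQ₀ (mem_zpowers x)
  have X₀ := hX x (ne_one ox) tx Q₀ xQ
  have e2 : (⋃ Q ∈ X, ((Q : Subgroup G) : Set G) \ {1}).ncard = X.ncard * (Nat.card Q₀ - 1) := by
    rw [Set.Finite.ncard_biUnion (Set.toFinite X) (fun _ _ => Set.toFinite _)
      (fun Q _ R _ hn => Set.disjoint_left.2 fun w h1 h2 => hn (h.uniq h1.2 h1.1 h2.1)),
      finsum_mem_congr rfl (g := fun _ => Nat.card Q₀ - 1) fun Q _ => by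
        rw [Set.ncard_diff_singleton_of_mem (one_mem _), ← H4.card_sylow_eq Q Q₀]; rfl,
      finsum_mem_eq_finite_toFinset_sum _ (Set.toFinite X), Finset.sum_const, smul_eq_mul,
      Set.ncard_eq_toFinset_card X]
  have e3 : X = MulAction.orbit (centralizer ({t} : Set G)) Q₀ := by
    ext Q
    constructor
    · intro hQ
      obtain ⟨g, rfl⟩ := MulAction.exists_smul_eq G Q₀ Q
      have s1 : ∀ w ∈ (Q₀ : Subgroup G), cj (cj g⁻¹ t) w = w⁻¹ := fun w hw => by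
        apply cj_inj g
        rw [← cj_cj, cj_inv_cj, cj_inv]
        exact hQ _ (H4.conj_mem_smul_sylow hw)
      have s2 : cj g⁻¹ t * cj g⁻¹ t = 1 := cj_sq ht
      have c1 : cj (t * cj g⁻¹ t) x = x := by rw [mul_cj, s1 x xQ, cj_inv, tx, inv_inv]
      obtain ⟨k, hk⟩ := ppow_of (p := p) (c := t * cj g⁻¹ t) fun u hu pu =>
        h.dih ht (zp_inv (inv_mul ht s2).1 hu) pu fun e =>
          hA u x e (sq pu) ox (zp_fix (cj_comm.1 c1) hu)
      have c2 := h.mem_syl ox xQ (mem_Nx_of c1) hk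
      obtain ⟨m, hm⟩ : Odd (p ^ k) := (hp.out.odd_of_ne_two h.odd).pow
      set c := t * cj g⁻¹ t with hc
      have c3 : c ^ (m + 1) * c ^ (m + 1) = c := by
        rw [← pow_add, show m + 1 + (m + 1) = 2 * m + 1 + 1 by ring, ← hm, pow_succ, hk, one_mul]
      have c4 := X₀ _ (pow_mem c2 (m + 1))
      have c5 := pow_mem c2 (m + 1)
      generalize c ^ (m + 1) = w at c3 c4 c5
      refine ⟨⟨g * w⁻¹, mem_cen.2 ?_⟩, ?_⟩
      · rw [mul_cj, ← inv_cj_eq.1 (rfl : cj g⁻¹ t = _)]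
        conv_lhs => rw [cj_inv_cj]
        congr 1
        have : cj g⁻¹ t = t * (w * w) := by rw [c3, hc, ← mul_assoc, ht, one_mul]
        rw [this, cj, inv_inv, ← c4, cj, inv_eq_of_mul_eq_one_right ht, mul_assoc _ t t, ht]
        group
      · show (g * w⁻¹) • Q₀ = g • Q₀
        rw [mul_smul, Sylow.smul_eq_iff_mem_normalizer.2 (le_normalizer (inv_mem c5))]
    · rintro ⟨⟨g, hg⟩, rfl⟩ w hw
      have := X₀ _ (H4.mem_smul_sylow_iff.1 hw)
      apply cj_inj g⁻¹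
      rw [← cj_cj, inv_cj_eq.2 (mem_cen.1 hg), cj_inv]
      simpa [cj] using this
  rw [e1, Set.ncard_image_of_injective _ (mul_right_injective t), e2, hp.out.dvd_mul] at d3
  rcases d3 with d3 | d3
  · rw [e3, ← MulAction.index_stabilizer] at d3
    exact nd t ht t1 (d3.trans (index_dvd_card _))
  · have d4 : p ∣ Nat.card Q₀ := by
      have := card_dvd_of_le hQ₀
      rwa [Nat.card_zpowers, ox] at this
    have := (Nat.dvd_sub_iff_right (Nat.card_pos (α := Q₀)) d4).1 d3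
    exact hp.out.one_lt.ne' (Nat.dvd_one.1 this)

/-- the structure of a Sylow `2`-subgroup containing an involution centralising `x` -/
theorem keyB {x d y : G} (ox : orderOf x = p) (S : Sylow 2 G) (hd : d ∈ (S : Subgroup G))
    (d1 : d ≠ 1) (e : cj d x = x) (oy : orderOf y = p)
    (hy : ∀ s ∈ (S : Subgroup G), cj y s ∈ (S : Subgroup G))
    (hn : ∃ s ∈ (S : Subgroup G), cj y s ≠ s) : cj (cj y d) x ≠ x := fun e' => by
  have o' := (ord_cj y x).trans ox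
  have n1 : cj y d ≠ 1 := mt cj_eq_one.1 d1
  have co := h.cop S (hy d hd)
  have h1 : cj y x ∈ Nx x := (h.cen ox n1 co e').1 (by rw [cj_cj, cj_comm.1 e])
  have h2 := zp_eq o' (h.syl ox h1 (ppow o') (ne_one o')) (ne_one ox)
  have h3 : y ∈ Nx x := mem_Nx.2 (h2.ge (mem_zpowers _))
  have h4 := zp_eq oy (h.syl ox h3 (ppow oy) (ne_one oy)) (ne_one ox)
  obtain ⟨s, hs, hn⟩ := hn
  have h5 : s ∈ Nx x := (h.cen ox d1 (h.cop S hd) e).1 (cj_eq_iff.2 (h.comm2 S hs hd))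
  have h6 : cj s y ∈ zpowers y := h4 ▸ mem_norm.1 h5 y (h4.ge (mem_zpowers y))
  have h7 : cj y s * s⁻¹ ∈ zpowers y := by
    rw [show cj y s * s⁻¹ = y * (cj s y)⁻¹ by simp only [cj]; group]
    exact mul_mem (mem_zpowers y) (inv_mem h6)
  obtain ⟨k, hk⟩ := pg_of oy ⟨_, h7⟩
  exact hn (mul_inv_eq_one.1 (eq_one_of_cop (h.cop S (mul_mem (hy s hs) (inv_mem hs)))
    (congrArg Subtype.val hk : (cj y s * s⁻¹) ^ p ^ k = 1)))

theorem prodB {x d : G} (ox : orderOf x = p) (S : Sylow 2 G) (hd : d ∈ (S : Subgroup G))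
    (d1 : d ≠ 1) (e : cj d x = x) {a b : G} (ha : a ∈ (S : Subgroup G)) (hb : b ∈ (S : Subgroup G))
    (a2 : a * a = 1) (b2 : b * b = 1) (na : cj a x ≠ x) (nb : cj b x ≠ x) : cj (a * b) x = x := by
  have k : ∀ s ∈ (S : Subgroup G), s * s = 1 → cj s x ≠ x → cj s x = x⁻¹ := fun s hs s2 n =>
    (h.pm ox s2 ((h.cen ox d1 (h.cop S hd) e).1 (cj_eq_iff.2 (h.comm2 S hs hd)))).resolve_left n
  rw [mul_cj, k b hb b2 nb, cj_inv, k a ha a2 na, inv_inv]

omit h in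
theorem syl2_of2 {a b c : G} (ha : a * a = 1) (hb : b * b = 1) (hc : c * c = 1)
    (ab : a * b = b * a) (ac : a * c = c * a) (bc : b * c = c * b) :
    ∃ S : Sylow 2 G, a ∈ (S : Subgroup G) ∧ b ∈ (S : Subgroup G) ∧ c ∈ (S : Subgroup G) := by
  have cm : ∀ x ∈ ({a, b, c} : Set G), ∀ y ∈ ({a, b, c} : Set G), x * y = y * x := by
    rintro x (rfl | rfl | rfl) y (rfl | rfl | rfl) <;> first | rfl | assumption | (symm; assumption)
  have : IsPGroup 2 (closure ({a, b, c} : Set G)) := fun g => ⟨1, Subtype.ext (by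
    obtain ⟨g, hg⟩ := g
    show g ^ 2 ^ 1 = 1
    rw [pow_one, pow_two]
    induction hg using closure_induction with
    | mem x hx => rcases hx with rfl | rfl | rfl <;> assumption
    | one => simp
    | mul x y hx hy h1 h2 =>
      have : y * x = x * y := (closure_le_centralizer_centralizer _ hy x
        ((closure_le (centralizer _)).2 (fun z hz w hw => cm w hw z hz) hx)).symm
      rw [mul_assoc, ← mul_assoc y, this, mul_assoc, h2, mul_one, h1]
    | inv x _ h1 => rw [← mul_inv_rev, h1, inv_one])⟩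
  obtain ⟨S, hS⟩ := this.exists_le_sylow
  exact ⟨S, hS (subset_closure (by simp)), hS (subset_closure (by simp)),
    hS (subset_closure (by simp))⟩

theorem uniqB {x d d' : G} (ox : orderOf x = p) (d2 : d * d = 1) (d1 : d ≠ 1) (e : cj d x = x)
    (d2' : d' * d' = 1) (d1' : d' ≠ 1) (e' : cj d' x = x) : d = d' := by
  have c := cj_eq_iff.1 ((h.locN ox).2 d (cop2' h.odd d2) e d' (mem_Nx_of e'))
  obtain ⟨S, hd, hd', -⟩ := syl2_of2 d2 d2' d2' c.symm c.symm rfl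
  obtain ⟨y, oy, hy, hn⟩ := h.exists_y S
  by_contra ne
  refine h.keyB ox S (mul_mem hd hd') (fun e2 => ne ?_) (by rw [mul_cj, e', e]) oy hy hn ?_
  · rw [eq_inv_of_mul_eq_one_left e2, inv_eq_of_mul_eq_one_right d2']
  · rw [cj_mul]
    exact h.prodB ox S hd d1 e (hy d hd) (hy d' hd') (cj_sq d2) (cj_sq d2')
      (h.keyB ox S hd d1 e oy hy hn) (h.keyB ox S hd' d1' e' oy hy hn)

theorem threeB {x d : G} (ox : orderOf x = p) (S : Sylow 2 G) (hd : d ∈ (S : Subgroup G))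
    (d2 : d * d = 1) (d1 : d ≠ 1) (e : cj d x = x) {a b : G} (ha : a ∈ (S : Subgroup G))
    (hb : b ∈ (S : Subgroup G)) (a2 : a * a = 1) (b2 : b * b = 1) (a1 : a ≠ 1) (b1 : b ≠ 1)
    (ad : a ≠ d) (bd : b ≠ d) (ab : a ≠ b) : b = d * a := by
  have c := h.comm2 S ha hb
  have := h.uniqB ox (d := a * b) (by rw [mul_assoc, ← mul_assoc b, ← c, mul_assoc, b2, mul_one, a2])
    (fun e2 => ab (by rw [eq_inv_of_mul_eq_one_left e2, inv_eq_of_mul_eq_one_right b2]))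
    (h.prodB ox S hd d1 e ha hb a2 b2 (fun e' => ad (h.uniqB ox a2 a1 e' d2 d1 e))
      fun e' => bd (h.uniqB ox b2 b1 e' d2 d1 e)) d2 d1 e
  rw [← this, c, mul_assoc, a2, mul_one]

theorem conjB {x d : G} (ox : orderOf x = p) (d2 : d * d = 1) (d1 : d ≠ 1) (e : cj d x = x)
    {s : G} (s2 : s * s = 1) (s1 : s ≠ 1) : ∃ g, cj g d = s := by
  obtain ⟨S, hd⟩ := syl2_of d2
  obtain ⟨T, hs⟩ := syl2_of s2
  obtain ⟨g, rfl⟩ := MulAction.exists_smul_eq G S T
  have hs' : cj g⁻¹ s ∈ (S : Subgroup G) := by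
    rw [cj, inv_inv]; exact H4.mem_smul_sylow_iff.1 hs
  suffices ∃ k, cj k d = cj g⁻¹ s by
    obtain ⟨k, hk⟩ := this
    exact ⟨g * k, by rw [mul_cj, hk, cj_inv_cj]⟩
  have s2' : cj g⁻¹ s * cj g⁻¹ s = 1 := cj_sq s2
  have s1' : cj g⁻¹ s ≠ 1 := mt cj_eq_one.1 s1
  generalize cj g⁻¹ s = s at hs' s2' s1'
  obtain ⟨y, oy, hy, hn⟩ := h.exists_y S
  have n1 := h.keyB ox S hd d1 e oy hy hn
  have ne1 : cj y d ≠ d := fun e' => n1 (by rwa [e'])
  have ne2 : cj y (cj y d) ≠ d := fun e' => by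
    have h1 : y * y ∈ centralizer ({d} : Set G) := mem_cen.2 (by rwa [mul_cj])
    obtain ⟨m, hm⟩ := hp.out.odd_of_ne_two h.odd
    have h2 : y = (y * y) ^ (m + 1) := by
      rw [← pow_two, ← pow_mul, show 2 * (m + 1) = 2 * m + 1 + 1 by ring, ← hm, pow_succ, ← oy,
        pow_orderOf_eq_one, one_mul]
    exact ne1 (mem_cen.1 (h2 ▸ pow_mem h1 (m + 1)))
  have t := fun b hb b2 b1 bd ab => h.threeB ox S hd d2 d1 e (b := b) (hy d hd) hb (cj_sq d2) b2
    (mt cj_eq_one.1 d1) b1 ne1 bd ab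
  by_cases e1 : s = d
  · exact ⟨1, by rw [one_cj, e1]⟩
  by_cases e2 : cj y d = s
  · exact ⟨y, e2⟩
  refine ⟨y * y, ?_⟩
  rw [mul_cj, t s hs' s2' s1' e1 e2, t _ (hy _ (hy d hd)) (cj_sq (cj_sq d2))
    (mt cj_eq_one.1 (mt cj_eq_one.1 d1)) ne2 fun e' => ne1 (cj_inj y e').symm]

theorem caseB {x d : G} (ox : orderOf x = p) (d2 : d * d = 1) (d1 : d ≠ 1) (e : cj d x = x) :
    False := by
  have ex : ∀ u : G, u * u = 1 → u ≠ 1 → ∃ z, orderOf z = p ∧ cj u z = z := fun u u2 u1 => by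
    obtain ⟨g, rfl⟩ := h.conjB ox d2 d1 e u2 u1
    exact ⟨cj g x, (ord_cj g x).trans ox, by rw [cj_cj, e]⟩
  have ex' : ∀ z : G, orderOf z = p → ∃ u, u * u = 1 ∧ u ≠ 1 ∧ cj u z = z := fun z oz => by
    obtain ⟨g, hg⟩ := h.conj ox oz
    exact ⟨cj g d, cj_sq d2, mt cj_eq_one.1 d1, zp_fix (by rw [cj_cj, e]) (hg.ge (mem_zpowers z))⟩
  let V := {s : G // s * s = 1 ∧ s ≠ 1}
  haveI : Nonempty V := ⟨⟨d, d2, d1⟩⟩
  let adj : V → V → Prop := fun a b => a.1 ≠ b.1 ∧ cj a.1 b.1 = b.1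
  let T : G → Set G := fun a => {b | (b * b = 1 ∧ b ≠ 1) ∧ a ≠ b ∧ cj a b = b}
  have hT : ∀ a : V, {b | adj a b}.ncard = (T a).ncard := fun a => by
    rw [← Set.ncard_image_of_injective _ Subtype.val_injective]
    congr 1
    ext b
    exact ⟨by rintro ⟨b, hb, rfl⟩; exact ⟨b.2, hb⟩, fun hb => ⟨⟨b, hb.1⟩, hb.2, rfl⟩⟩
  have hT' : ∀ g a, T (cj g a) = cj g '' T a := fun g a => by
    ext b
    obtain ⟨b, rfl⟩ : ∃ c, cj g c = b := ⟨_, cj_inv_cj g b⟩
    rw [(cj_inj g).mem_set_image]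
    simp only [T, Set.mem_setOf_eq, ← cj_mul, cj_eq_one, ne_eq, (cj_inj g).eq_iff, cj_cj]
  refine friend adj (T d).ncard ?_ (fun a ha => ha.1 rfl) (fun a b hab => ⟨hab.1.symm, cj_comm.1 hab.2⟩)
    (fun a => ?_) fun a b hab => ?_
  · obtain ⟨t, t2, tx⟩ := h.inv ox
    have nt : cj t x ≠ x := fun e' => h.ne_inv ox (e'.symm.trans tx)
    have h1 : p ∣ (T d).ncard := dvd_ncard (x := x) (by rw [← ox, pow_orderOf_eq_one])
      (fun s hs => by
        have : T d = cj x '' T d := by rw [← hT', cj_comm.1 e]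
        rw [this]; exact ⟨s, hs, rfl⟩)
      fun s hs e' => hs.2.1 (h.uniqB ox d2 d1 e hs.1.1 hs.1.2 (cj_comm.1 e'))
    have h2 : 0 < (T d).ncard := (Set.ncard_pos (Set.toFinite _)).2 ⟨t, ⟨t2, fun e' => nt (by
      rw [e', one_cj])⟩, fun e' => nt (e' ▸ e), cj_comm.1
        ((h.cen ox d1 (cop2' h.odd d2) e).2 (mem_Nx_inv tx))⟩
    have := Nat.le_of_dvd h2 h1
    have := hp.out.two_le
    have := h.odd
    omega
  · obtain ⟨g, hg⟩ := h.conjB ox d2 d1 e a.2.1 a.2.2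
    rw [hT, ← hg, hT', Set.ncard_image_of_injective _ (cj_inj g)]
  obtain ⟨t, t2, t1⟩ := a
  obtain ⟨s, s2, s1⟩ := b
  have ts : t ≠ s := fun e' => hab (Subtype.ext e')
  have ts1 : t * s ≠ 1 := fun e' => ts (by
    rw [eq_inv_of_mul_eq_one_left e', inv_eq_of_mul_eq_one_right s2])
  by_cases c : t * s = s * t
  · refine ⟨⟨t * s, by rw [mul_assoc, ← mul_assoc s, ← c, mul_assoc, s2, mul_one, t2], ts1⟩,
      ⟨⟨fun e' => s1 (by simpa using e'), cj_eq_iff.2 (show t * (t * s) = t * s * t by rw [mul_assoc, c])⟩,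
        fun e' => t1 (by simpa using e'), cj_eq_iff.2 (show t * s * s = s * (t * s) by rw [← mul_assoc, c])⟩, ?_⟩
    rintro ⟨v, v2, v1⟩ ⟨⟨h1, h2⟩, h3, h4⟩
    obtain ⟨S, ht, hs, hv⟩ := syl2_of2 t2 s2 v2 c (cj_eq_iff.1 h2) (cj_eq_iff.1 h4).symm
    obtain ⟨z, oz, ez⟩ := ex t t2 t1
    exact Subtype.ext (h.threeB oz S ht t2 t1 ez hs hv s2 v2 s1 v1 ts.symm (Ne.symm h1) (Ne.symm h3))
  have mk : ∀ u : G, u * u = 1 → u ≠ 1 → cj t u = u → cj s u = u →
      ∃ c : V, adj ⟨t, t2, t1⟩ c ∧ adj c ⟨s, s2, s1⟩ := fun u u2 u1 h1 h2 =>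
    ⟨⟨u, u2, u1⟩, ⟨fun e' => c (by
      obtain rfl : t = u := e'
      exact (cj_eq_iff.1 h2).symm), h1⟩, fun e' => c (by
      obtain rfl : u = s := e'
      exact cj_eq_iff.1 h1), cj_comm.1 h2⟩
  have key : ∀ u z : G, u * u = 1 → u ≠ 1 → orderOf z = p → cj u z = z → t ≠ u → cj t u = u →
      u ≠ s → cj u s = s → z ∈ zpowers (t * s) := fun u z u2 u1 oz uz h1 h2 h3 h4 => by
    have cn := fun g => (h.cen oz u1 (cop2' h.odd u2) uz (g := g)).1
    have i1 := (h.pm oz t2 (cn t h2)).resolve_left fun e' => h1 (h.uniqB oz t2 t1 e' u2 u1 uz)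
    have i2 := (h.pm oz s2 (cn s (cj_comm.1 h4))).resolve_left fun e' =>
      h3 (h.uniqB oz u2 u1 uz s2 s1 e')
    have i3 : cj (t * s) z = z := by rw [mul_cj, i2, cj_inv, i1, inv_inv]
    obtain ⟨k, m, hm, em⟩ := Nat.exists_eq_pow_mul_and_not_dvd (orderOf_pos (t * s)).ne' p hp.out.ne_one
    have m1 : (t * s) ^ m ∈ zpowers (t * s) := npow_mem_zpowers _ _
    refine zpowers_le.2 m1 (h.syl oz (k := k) (pow_mem (mem_Nx_of i3) m)
      (by rw [← pow_mul, mul_comm m, ← em, pow_orderOf_eq_one]) fun e' => c ?_)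
    have co : (orderOf (t * s)).Coprime p := Nat.Coprime.coprime_dvd_left
      (orderOf_dvd_of_pow_eq_one e') ((hp.out.coprime_iff_not_dvd.2 hm).symm)
    have := (h.locN oz).2 _ co i3 t (cn t h2)
    rw [cj, mul_inv_eq_iff_eq_mul, mul_assoc, mul_right_inj] at this
    exact this
  have exi : ∃ c : V, adj ⟨t, t2, t1⟩ c ∧ adj c ⟨s, s2, s1⟩ := by
    obtain ⟨r, hr, hd⟩ := Nat.exists_prime_and_dvd (mt orderOf_eq_one_iff.1 ts1)
    have o := orderOf_pow_orderOf_div (orderOf_pos _).ne' hd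
    have m1 : (t * s) ^ (orderOf (t * s) / r) ∈ zpowers (t * s) := npow_mem_zpowers _ _
    have i1 := zp_inv (inv_mul t2 s2).1 m1
    have i2 := zp_inv (inv_mul t2 s2).2 m1
    generalize (t * s) ^ (orderOf (t * s) / r) = w at o i1 i2
    by_cases w2 : w * w = 1
    · have e' := inv_eq_of_mul_eq_one_right w2
      exact mk w w2 (fun e'' => hr.one_lt.ne' (by rw [← o, e'', orderOf_one])) (i1.trans e')
        (i2.trans e')
    · have ow := h.dih t2 i1 (by rwa [o]) w2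
      obtain ⟨u, u2, u1, uw⟩ := ex' w ow
      have cn := fun g => (h.cen ow u1 (cop2' h.odd u2) uw (g := g)).2
      exact mk u u2 u1 (cn t (mem_Nx_inv i1)) (cn s (mem_Nx_inv i2))
  obtain ⟨⟨u, u2, u1⟩, hu⟩ := exi
  refine ⟨_, hu, ?_⟩
  rintro ⟨v, v2, v1⟩ hv
  obtain ⟨z, oz, uz⟩ := ex u u2 u1
  obtain ⟨z', oz', vz⟩ := ex v v2 v1
  have k1 := key u z u2 u1 oz uz hu.1.1 hu.1.2 hu.2.1 hu.2.2
  have k2 := key v z' v2 v1 oz' vz hv.1.1 hv.1.2 hv.2.1 hv.2.2
  have k3 : z' ∈ Nx z := mem_Nx_of (by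
    obtain ⟨i, rfl⟩ := k1
    obtain ⟨j, rfl⟩ := k2
    exact cj_eq_iff.2 (Commute.zpow_zpow_self _ j i).eq)
  exact Subtype.ext (h.uniqB oz v2 v1 (zp_fix vz (h.syl oz k3 (ppow oz') (ne_one oz'))) u2 u1 uz)

theorem false : False :=
  h.caseA fun _ _ d2 d1 ox e => h.caseB ox d2 d1 (cj_comm.1 e)

end Sp

universe u

theorem main (n : ℕ) : ∀ (G : Type u) [Group G] [Finite G], Nat.card G = n → Hy p G → Cn p G := by
  induction n using Nat.strong_induction_on with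
  | _ n ih =>
  intro G _ _ hc h
  refine or_iff_not_imp_left.2 fun hn => ?_
  have sub : ∀ H : Subgroup G, H ≠ ⊤ → Cn p H := fun H hH => ih _
    (hc ▸ H1.card_lt_of_ne_top hH) H rfl (h.sub H)
  by_cases h1 : ∃ X : Subgroup G, X.Normal ∧ IsPGroup p X ∧ X ≠ ⊥
  · obtain ⟨X, hX, pX, nX⟩ := h1
    obtain ⟨⟨w, hw⟩, w1⟩ := ne_bot_iff_exists_ne_one.1 nX
    obtain ⟨k, hk⟩ := pX ⟨w, hw⟩
    obtain ⟨x, hx, ox⟩ := pow_ord (congrArg Subtype.val hk : w ^ p ^ k = 1)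
      fun e => w1 (Subtype.ext e)
    have hx' := zpowers_le.2 hw hx
    exact (h.loc hn ox fun g => h.zp pX hx' (hX.conj_mem x hx' g) ox
      (by rw [← ox, ← ord_cj g x, pow_orderOf_eq_one])).1
  by_cases h2 : ∃ A : Subgroup G, A.Normal ∧ ¬ p ∣ Nat.card A ∧ A ≠ ⊥
  · obtain ⟨A, hA, pA, nA⟩ := h2
    have := ih _ (hc ▸ H1.card_quotient_lt nA) (G ⧸ A) rfl (h.quot A pA)
    have h3 := this.resolve_left fun e => hn (H4.hasNormalPComplement_of_quotient_coprime pA e)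
    refine fun P => normal_of_central P.2 pA (fun a ha => h.central hn pA ha) fun g x hx => ?_
    have h4 := (h3 (P.mapSurjective (QuotientGroup.mk'_surjective A))).conj_mem _ ⟨x, hx, rfl⟩ (g : G ⧸ A)
    have h5 : cj g x ∈ ((P : Subgroup G).map (QuotientGroup.mk' A)).comap (QuotientGroup.mk' A) := h4
    rwa [comap_map_eq, QuotientGroup.ker_mk', sup_comm] at h5
  exfalso
  push Not at h1 h2
  have h2' : ∀ A : Subgroup G, A.Normal → ¬ p ∣ Nat.card A → A = ⊥ := fun A a b => by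
    by_contra e
    exact e (h2 A a b)
  have simp : ∀ N : Subgroup G, N.Normal → N = ⊥ ∨ N = ⊤ := fun N hN => by
    refine or_iff_not_imp_right.2 fun e => ?_
    rcases sub N e with e1 | e1
    · haveI := H4.pResidual_characteristic p N
      have := h2' _ inferInstance ((H4.hasNormalPComplement_iff_card_map N).1 e1)
      rw [map_eq_bot_iff_of_injective _ N.subtype_injective] at this
      exact h1 N hN (H4.isPGroup_of_pResidual_eq_bot this)
    · obtain ⟨Q⟩ : Nonempty (Sylow p N) := inferInstance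
      haveI := e1 Q
      haveI := Q.characteristic_of_normal (e1 Q)
      have := h1 _ inferInstance (Q.2.map N.subtype)
      rw [map_eq_bot_iff_of_injective _ N.subtype_injective] at this
      refine h2' N hN ?_
      have h3 := Q.not_dvd_index
      rwa [this, index_bot] at h3
  have pd : p ∣ Nat.card G := by
    by_contra e
    exact hn (H4.hasNormalPComplement_of_not_dvd e)
  haveI : Nontrivial G := Finite.one_lt_card_iff_nontrivial.1
    (hp.out.one_lt.trans_le (Nat.le_of_dvd Nat.card_pos pd))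
  haveI : IsSimpleGroup G := ⟨simp⟩
  have nab : ¬ IsMulCommutative G := fun e => by
    letI : CommGroup G := { (inferInstance : Group G) with mul_comm := mul_comm' }
    exact hn H4.hasNormalPComplement_of_isNilpotent
  have odd : p ≠ 2 := by
    rintro rfl
    obtain ⟨P⟩ : Nonempty (Sylow 2 G) := inferInstance
    exact hn (H4.hasNormalPComplement_of_isCyclic_min pd (fun q hq _ => hq.two_le) P (h.cyc _ P.2))
  refine Sp.false ⟨h, odd, fun d d1 => sub _ fun e => ?_, h2' _ inferInstance fun e => ?_, fun e => ?_⟩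
  · rcases simp (center G) inferInstance with e1 | e1
    · exact d1 (mem_bot.1 (e1 ▸ mem_center_iff.2 fun g =>
        mem_centralizer_singleton_iff.1 (e ▸ mem_top g)))
    · exact nab ⟨⟨fun a b => (mem_center_iff.1 (e1 ▸ mem_top b) a)⟩⟩
  · obtain ⟨m, hm⟩ := IsPGroup.iff_card.1 (H1.isPGroup_pCore (p := 2) (G := G))
    rw [hm] at e
    exact odd ((Nat.prime_dvd_prime_iff_eq hp.out Nat.prime_two).1 (hp.out.dvd_of_dvd_pow e))
  · by_cases ev : 2 ∣ Nat.card G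
    · exact nab (H4.isMulCommutative_of_isSimpleGroup_of_hasNormalPComplement e ev)
    · haveI := Cfsg.Agent.S0205.result (G := G) (Nat.odd_iff.2 (by omega))
      exact nab ⟨⟨IsSimpleGroup.comm_iff_isSolvable.2 inferInstance⟩⟩

end H4.CyA
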