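import Mathlib
import Cfsg.Agent.Base
import Cfsg.Agent.Lib.H4.G168
import Cfsg.Agent.Lib.Core.GrpBasic

/-! Klein four-groups and maximal subgroups of a simple group of order 168. -/

set_option autoImplicit false
open Cfsg Subgroup

namespace H4.G168

variable {G : Type*} [Group G]

theorem pair_b {H : Subgroup G} {a b : G} (hd : H73.DihData H 4 a b) (i : ℤ) :
    H29.IsPair (a ^ 2) (a ^ i * b) := by
  have h2 := orderOf_sq hd.ord
  refine ⟨H9.mul_self_of_orderOf_two h2, H9.ne_one_of_orderOf_two h2, hd.refl_mul_self i,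
    H9.ne_one_of_orderOf_two (hd.orderOf_refl i),
    fun e => hd.refl_notMem i (e ▸ pow_mem (mem_zpowers a) 2), ?_⟩
  have h1 := hd.conj_zpow 2
  rw [show a ^ (2 : ℤ) = a ^ 2 from zpow_natCast a 2,
    inv_eq_of_mul_eq_one_right (H9.mul_self_of_orderOf_two h2), mul_inv_eq_iff_eq_mul] at h1
  rw [mul_assoc, h1, ← mul_assoc, ← mul_assoc, (((Commute.refl a).zpow_left i).pow_right 2).eq]

theorem klein_cases [Finite G] {H : Subgroup G} {a b : G} (hd : H73.DihData H 4 a b)
    {U : Subgroup G} (hU : IsKleinFour U) (hle : U ≤ H) :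
    U = closure {a ^ 2, a ^ (0 : ℤ) * b} ∨ U = closure {a ^ 2, a ^ (1 : ℤ) * b} := by
  obtain ⟨s, t, hp, rfl⟩ := H29.exists_isPair hU
  have h2 := orderOf_sq hd.ord
  have hinv : ∀ x ∈ zpowers a, x * x = 1 → x ≠ 1 → x = a ^ 2 := fun x hx h3 h4 =>
    H29.eq_of_mem_zpowers_of_mul_self hx (pow_mem (mem_zpowers a) 2) h3
      (H9.mul_self_of_orderOf_two h2) h4 (H9.ne_one_of_orderOf_two h2)
  have hs : s ∈ closure ({s, t} : Set G) := subset_closure (by simp)
  have ht : t ∈ closure ({s, t} : Set G) := subset_closure (by simp)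
  obtain ⟨x, hx, hx', hz⟩ : ∃ x ∈ closure ({s, t} : Set G), x ∉ zpowers a ∧
      a ^ 2 ∈ closure ({s, t} : Set G) := by
    by_cases e1 : s ∈ zpowers a
    · refine ⟨t, ht, fun e2 => hp.ne ?_, hinv s e1 hp.sq₁ hp.ne₁ ▸ hs⟩
      rw [hinv s e1 hp.sq₁ hp.ne₁, hinv t e2 hp.sq₂ hp.ne₂]
    by_cases e2 : t ∈ zpowers a
    · exact ⟨s, hs, e1, hinv t e2 hp.sq₂ hp.ne₂ ▸ ht⟩
    · have : s * t ∈ zpowers a := (mul_mem_iff_of_index_two hd.relIndex (a := ⟨s, hle hs⟩)
        (b := ⟨t, hle ht⟩)).2 (iff_of_false e1 e2)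
      exact ⟨s, hs, e1, hinv _ this hp.rot.sq₂ hp.rot.ne₂ ▸ mul_mem hs ht⟩
  obtain ⟨i, rfl | rfl⟩ := (hd.mem x).1 (hle hx)
  · exact absurd (zpow_mem (mem_zpowers a) i) hx'
  have key : ∀ j : ℤ, a ^ (j + 2 * (i / 2)) * b ∈ closure ({s, t} : Set G) →
      closure ({s, t} : Set G) = closure {a ^ 2, a ^ j * b} := fun j hj => by
    refine ((pair_b hd j).closure_eq hU hz ?_).symm
    have := mul_mem (zpow_mem hz (-(i / 2))) hj
    rwa [← zpow_natCast, ← zpow_mul, ← mul_assoc, ← zpow_add,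
      show ((2 : ℕ) : ℤ) * -(i / 2) + (j + 2 * (i / 2)) = j by push_cast; ring] at this
  rcases Int.emod_two_eq_zero_or_one i with e | e
  · exact Or.inl (key 0 (by rwa [show 0 + 2 * (i / 2) = i by omega]))
  · exact Or.inr (key 1 (by rwa [show 1 + 2 * (i / 2) = i by omega]))

theorem klein_ne {H : Subgroup G} {a b : G} (hd : H73.DihData H 4 a b) :
    closure ({a ^ 2, a ^ (0 : ℤ) * b} : Set G) ≠ closure {a ^ 2, a ^ (1 : ℤ) * b} := by
  intro e
  have h1 : a ^ (1 : ℤ) * b ∈ closure ({a ^ 2, a ^ (0 : ℤ) * b} : Set G) :=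
    e ▸ subset_closure (by simp)
  have h2 : a ^ (0 : ℤ) * b ∈ closure ({a ^ 2, a ^ (0 : ℤ) * b} : Set G) := subset_closure (by simp)
  have h3 := mul_mem h1 (inv_mem h2)
  have h4 : a ∈ closure ({a ^ 2, a ^ (0 : ℤ) * b} : Set G) := by simpa using h3
  have := congrArg Subtype.val (haveI := (pair_b hd 0).isKleinFour; IsKleinFour.mul_self
    (⟨a, h4⟩ : closure ({a ^ 2, a ^ (0 : ℤ) * b} : Set G)))
  exact H9.ne_one_of_orderOf_two (orderOf_sq hd.ord) (by rw [pow_two]; exact this)

theorem map_conj_map (V : Subgroup G) (g k : G) :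
    (V.map (MulAut.conj g).toMonoidHom).map (MulAut.conj k).toMonoidHom =
      V.map (MulAut.conj (k * g)).toMonoidHom := by
  rw [map_map]; congr 1; ext x; simp [mul_assoc]

theorem map_conj_one (V : Subgroup G) : V.map (MulAut.conj (1 : G)).toMonoidHom = V := by
  ext x; simp

theorem isKleinFour_map {V : Subgroup G} (hV : IsKleinFour V) (g : G) :
    IsKleinFour (V.map (MulAut.conj g).toMonoidHom) :=
  let e := V.equivMapOfInjective _ (MulAut.conj g).injective
  ⟨(Nat.card_congr e.toEquiv).symm.trans hV.card_four,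
    (Monoid.exponent_eq_of_mulEquiv e).symm.trans hV.exponent_two⟩

theorem norm_map (V : Subgroup G) (g : G) :
    (normalizer (V : Set G)).map (MulAut.conj g).toMonoidHom =
      normalizer (V.map (MulAut.conj g).toMonoidHom : Set G) :=
  map_equiv_normalizer_eq V (MulAut.conj g)

variable [Finite G] [IsSimpleGroup G] (h : Nat.card G = 168)
include h

theorem not_conj (T : Sylow 2 G) {U W : Subgroup G} (hU : U ≤ T) (hW : W ≤ T) (kU : IsKleinFour U)
    (kW : IsKleinFour W) (hne : U ≠ W) (g : G) : U.map (MulAut.conj g).toMonoidHom ≠ W := by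
  intro hg
  obtain ⟨a, b, hd⟩ := exists_dih h T
  have h1 : ∀ V : Subgroup G, IsKleinFour V → ∃ k : G, V.map (MulAut.conj k).toMonoidHom = U := by
    intro V hV
    obtain ⟨S, hS⟩ := (IsPGroup.of_card (p := 2) (n := 2) hV.card_four).exists_le_sylow
    obtain ⟨k, rfl⟩ := MulAction.exists_smul_eq G S T
    have h2 : V.map (MulAut.conj k).toMonoidHom ≤ (k • S : Sylow 2 G) := map_mono hS
    have h3 : V.map (MulAut.conj k).toMonoidHom = U ∨ V.map (MulAut.conj k).toMonoidHom = W := by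
      rcases klein_cases hd (isKleinFour_map hV k) h2 with e | e <;>
        rcases klein_cases hd kU hU with e1 | e1 <;> rcases klein_cases hd kW hW with e2 | e2 <;>
        simp_all
    rcases h3 with e | e
    · exact ⟨k, e⟩
    · exact ⟨g⁻¹ * k, by rw [← map_conj_map, e, ← hg, map_conj_map, inv_mul_cancel, map_conj_one]⟩
  obtain ⟨V₁, V₂, k1, k2, hn, -⟩ := two_classes h
  obtain ⟨x, hx⟩ := h1 V₁ k1
  obtain ⟨y, hy⟩ := h1 V₂ k2
  exact hn ⟨y⁻¹ * x, by rw [← map_conj_map, hx, ← hy, map_conj_map, inv_mul_cancel, map_conj_one]⟩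

theorem isCoatom_of_card {M : Subgroup G} (hM : 12 < Nat.card M) (hM' : M ≠ ⊤) : IsCoatom M := by
  refine ⟨hM', fun K hK => ?_⟩
  by_contra hK'
  have h1 := card_le h hK'
  obtain ⟨m, hm⟩ := card_dvd_of_le hK.le
  have h2 : m ≠ 1 := fun e => hK.ne (eq_of_le_of_card_ge hK.le (by rw [hm, e, mul_one]))
  have h3 : m ≠ 0 := fun e => by rw [e, mul_zero] at hm; exact Nat.card_pos.ne' hm
  have : Nat.card M * 2 ≤ Nat.card M * m := Nat.mul_le_mul_left _ (by omega)
  omega

theorem isCoatom_norm {V : Subgroup G} (hV : IsKleinFour V) : IsCoatom (normalizer (V : Set G)) :=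
  isCoatom_of_card h (by rw [card_norm_klein h hV]; norm_num) fun e => by
    have := card_norm_klein h hV
    rw [e, card_top, h] at this; omega

theorem eq_of_norm_eq {V W : Subgroup G} (hV : IsKleinFour V) (hW : IsKleinFour W)
    (e : normalizer (V : Set G) = normalizer (W : Set G)) : V = W := by
  obtain ⟨u, hu⟩ := exists_prime_orderOf_dvd_card' (G := normalizer (V : Set G)) 3
    (by rw [card_norm_klein h hV]; norm_num)
  have h1 := modEq_one h (A := V ⊓ W)
    ((IsPGroup.of_card (p := 2) (n := 2) hV.card_four).to_le inf_le_left) (Or.inl rfl)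
    (by rw [orderOf_coe, hu]) (inf_normalizer_le_normalizer_inf ⟨u.2, e ▸ u.2⟩)
  have h2 : Nat.card ↥(V ⊓ W) ∣ 4 := hV.card_four ▸ card_dvd_of_le inf_le_left
  have h3 : Nat.card ↥(V ⊓ W) = 1 ∨ Nat.card ↥(V ⊓ W) = 4 := by
    have := Nat.le_of_dvd (by norm_num) h2
    generalize Nat.card ↥(V ⊓ W) = n at *
    interval_cases n <;> omega
  rcases h3 with h3 | h3
  · exfalso
    rw [card_eq_one] at h3
    have h4 : W ≤ V := fun w hw => cent_klein h hV (mem_centralizer_iff.2 fun v hv => by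
      have h5 : v * w * v⁻¹ * w⁻¹ ∈ V ⊓ W := by
        refine ⟨?_, W.mul_mem ((mem_normalizer_iff.1
          (e ▸ le_normalizer hv : v ∈ normalizer (W : Set G)) w).1 hw) (W.inv_mem hw)⟩
        have := (mem_normalizer_iff.1 (e.symm ▸ le_normalizer hw : w ∈ normalizer (V : Set G))
          v⁻¹).1 (inv_mem hv)
        simpa [mul_assoc] using mul_mem hv this
      rw [h3, mem_bot, mul_inv_eq_one, mul_inv_eq_iff_eq_mul] at h5
      exact h5)
    have := hW.card_four
    rw [← inf_eq_right.2 h4, h3, card_bot] at this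
    omega
  · exact (eq_of_le_of_card_ge inf_le_left (by rw [h3, hV.card_four])).symm.trans
      (eq_of_le_of_card_ge inf_le_right (by rw [h3, hW.card_four]))

theorem exists_klein_le (T : Sylow 2 G) : ∃ V : Subgroup G, IsKleinFour V ∧
    (T : Subgroup G) ≤ normalizer (V : Set G) := by
  obtain ⟨a, b, hd⟩ := exists_dih h T
  refine ⟨_, (pair_b hd 0).isKleinFour, le_norm_klein (pair_b hd 0).isKleinFour (card_two h T) ?_⟩
  rw [closure_le]
  rintro x (rfl | rfl)
  · exact pow_mem hd.a_mem 2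
  · exact mul_mem (zpow_mem hd.a_mem _) hd.b_mem

theorem norm_three_le (P : Sylow 3 G) : ∃ V : Subgroup G, IsKleinFour V ∧
    normalizer ((P : Subgroup G) : Set G) ≤ normalizer (V : Set G) := by
  obtain ⟨V, -, hV, -⟩ := two_classes h
  set N := normalizer (V : Set G) with hN
  have hc : Nat.card N = 24 := card_norm_klein h hV
  obtain ⟨Q⟩ : Nonempty (Sylow 3 N) := inferInstance
  obtain ⟨R, hR⟩ := Q.exists_comap_subtype_eq
  have hQ : Nat.card (Q : Subgroup N) = 3 :=
    H36.card_sylow_eq_pow Q (k := 1) (by rw [hc]; norm_num) (by rw [hc]; norm_num)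
  have hRN : (R : Subgroup G) ≤ N := by
    have h1 : (Q : Subgroup N).map N.subtype = R := eq_of_le_of_card_ge
      (by rw [← hR]; exact map_comap_le _ _) (by
        rw [card_map_of_injective N.subtype_injective, hQ]; exact (card_three h R).le)
    exact h1 ▸ map_subtype_le _
  have h2 := H36.card_eq_sylow_mul R
  rw [h, (three h R).1] at h2
  have h3 := H36.card_eq_sylow_mul (R.subtype hRN)
  rw [Sylow.coe_subtype, ← subgroupOf_normalizer_eq hRN, ← inf_subgroupOf_right,
    Nat.card_congr (subgroupOfEquivOfLe inf_le_right).toEquiv, hc] at h3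
  have h4 := card_sylow_modEq_one 3 N
  have h5 := card_dvd_of_le (inf_le_left : normalizer ((R : Subgroup G) : Set G) ⊓ N ≤ _)
  have h6 : Nat.card ↥(normalizer ((R : Subgroup G) : Set G) ⊓ N) = 6 := by
    rw [show Nat.card (normalizer ((R : Subgroup G) : Set G)) = 6 by omega] at h5
    have := Nat.le_of_dvd (by norm_num) h5
    unfold Nat.ModEq at h4
    generalize Nat.card ↥(normalizer ((R : Subgroup G) : Set G) ⊓ N) = n at *
    interval_cases n <;> omega
  have h7 : normalizer ((R : Subgroup G) : Set G) ≤ N :=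
    inf_eq_left.1 (eq_of_le_of_card_ge inf_le_left (by omega))
  obtain ⟨k, rfl⟩ := MulAction.exists_smul_eq G R P
  refine ⟨_, isKleinFour_map hV k, ?_⟩
  rw [← norm_map]
  exact (norm_map (R : Subgroup G) k).ge.trans (map_mono h7)

theorem coatom_cases {M : Subgroup G} (hM : IsCoatom M) :
    (∃ V : Subgroup G, IsKleinFour V ∧ M = normalizer (V : Set G)) ∨
      ∃ P : Sylow 7 G, M = normalizer ((P : Subgroup G) : Set G) := by
  haveI : Fact (Nat.Prime 7) := ⟨by norm_num⟩
  have hk : ∀ V : Subgroup G, IsKleinFour V → M ≤ normalizer (V : Set G) →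
      ∃ V : Subgroup G, IsKleinFour V ∧ M = normalizer (V : Set G) := fun V hV hle =>
    ⟨V, hV, ((hM.le_iff.1 hle).resolve_left (isCoatom_norm h hV).1).symm⟩
  have h2 : IsPGroup 2 M → ∃ V : Subgroup G, IsKleinFour V ∧ M = normalizer (V : Set G) := fun hp => by
    obtain ⟨T, hT⟩ := hp.exists_le_sylow
    obtain ⟨V, hV, h1⟩ := exists_klein_le h T
    exact hk V hV (hT.trans h1)
  have c1 := card_le h hM.1
  have c2 : Nat.card M ∣ 168 := h ▸ card_subgroup_dvd_card M
  by_cases hM1 : M = ⊥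
  · exact Or.inl (h2 (hM1 ▸ IsPGroup.of_bot))
  have hs : Group.IsSolvable M := by
    have : Nat.card M ∣ 2 ^ 3 * 3 ^ 1 ∨ Nat.card M ∣ 2 ^ 1 * 7 ^ 1 ∨ Nat.card M ∣ 3 ^ 1 * 7 ^ 1 := by
      generalize Nat.card M = n at *
      interval_cases n <;> omega
    rcases this with e | e | e <;> exact H8.isSolvable_of_card_dvd (by norm_num) (by norm_num) e
  haveI : Nontrivial M := (nontrivial_iff_ne_bot M).2 hM1
  obtain ⟨A, r, hr, hA, hA1, -, -, hA2, hA3, -⟩ :=
    H1.exists_elementary_abelian_normal_le (⊤ : Subgroup M) top_ne_bot inferInstance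
  haveI := Fact.mk hr
  set B := A.map M.subtype with hB
  have hB1 : B ≠ ⊥ := by rwa [hB, Ne, map_eq_bot_iff_of_injective _ M.subtype_injective]
  have hB3 : IsPGroup r B := hA3.map _
  have hMB : M ≤ normalizer (B : Set G) := by
    have := le_normalizer_map (H := A) M.subtype
    rwa [normalizer_eq_top, ← MonoidHom.range_eq_map, range_subtype] at this
  obtain ⟨k, hk'⟩ := IsPGroup.iff_card.1 hB3
  have hk0 : k ≠ 0 := by rintro rfl; exact hB1 (card_eq_one.1 hk')
  have hrd : r ∣ 2 ^ 3 * 3 * 7 := (dvd_pow_self r hk0).trans (by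
    have := card_subgroup_dvd_card B
    rwa [hk', h] at this)
  have hsyl : ∀ P : Sylow r G, Nat.card P = r → B ≤ P → B = P := fun P hP hle =>
    eq_of_le_of_card_ge hle (by
      rw [hk', show Nat.card (P : Subgroup G) = r from hP]; exact Nat.le_self_pow hk0 r)
  obtain ⟨P, hP⟩ := hB3.exists_le_sylow
  simp only [hr.dvd_mul] at hrd
  rcases hrd with (e | e) | e
  · obtain rfl := (Nat.prime_dvd_prime_iff_eq hr Nat.prime_two).1 (hr.dvd_of_dvd_pow e)
    by_cases hp : IsPGroup 2 M
    · exact Or.inl (h2 hp)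
    obtain ⟨s, hs, hs'⟩ : ∃ s, (s = 3 ∨ s = 7) ∧ s ∣ Nat.card M := by
      by_contra hc
      push Not at hc
      have a3 := hc 3 (Or.inl rfl)
      have a7 := hc 7 (Or.inr rfl)
      have : Nat.card M ∣ 2 ^ 3 := by
        generalize Nat.card M = n at *
        interval_cases n <;> omega
      obtain ⟨j, -, hj⟩ := (Nat.dvd_prime_pow Nat.prime_two).1 this
      exact hp (IsPGroup.of_card hj)
    haveI : Fact s.Prime := ⟨by rcases hs with rfl | rfl <;> norm_num⟩
    obtain ⟨u, hu⟩ := exists_prime_orderOf_dvd_card' s hs'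
    have h3 := modEq_one h hB3 hs (by rw [orderOf_coe, hu]) (hMB u.2)
    have h4 : Nat.card B ∣ 8 := (card_two h P) ▸ card_dvd_of_le hP
    have h5 : Nat.card B ≠ 8 := fun e => hp (P.isPGroup'.to_le (by
      rw [← norm_two h P, ← eq_of_le_of_card_ge hP (by rw [e]; exact (card_two h P).le)]
      exact hMB))
    have h6 : Nat.card B ≠ 1 := fun e => hB1 (card_eq_one.1 e)
    have h7 : Nat.card B = 4 := by
      have := Nat.le_of_dvd (by norm_num) h4
      generalize Nat.card B = n at *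
      rcases hs with rfl | rfl <;> interval_cases n <;> omega
    haveI : Nontrivial B := (nontrivial_iff_ne_bot B).2 hB1
    refine Or.inl (hk B ⟨h7, ?_⟩ hMB)
    refine (Monoid.exponent_eq_prime_iff Nat.prime_two).2 fun x hx => orderOf_eq_prime ?_ hx
    obtain ⟨_, y, hy, rfl⟩ := x
    have := congrArg Subtype.val (hA2 y hy)
    exact Subtype.ext this
  · obtain rfl := (Nat.prime_dvd_prime_iff_eq hr Nat.prime_three).1 e
    obtain ⟨V, hV, h1⟩ := norm_three_le h P
    exact Or.inl (hk V hV (hMB.trans (hsyl P (card_three h P) hP ▸ h1)))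
  · obtain rfl := (Nat.prime_dvd_prime_iff_eq hr (by norm_num)).1 e
    rw [hsyl P (card_seven h P) hP] at hMB
    refine Or.inr ⟨P, ((hM.le_iff.1 hMB).resolve_left fun e => ?_).symm⟩
    have := H36.card_eq_sylow_mul P
    rw [e, card_top, (seven h P).1, h] at this
    omega

theorem card_norm_seven (P : Sylow 7 G) : Nat.card (normalizer ((P : Subgroup G) : Set G)) = 21 := by
  haveI : Fact (Nat.Prime 7) := ⟨by norm_num⟩
  have := H36.card_eq_sylow_mul P
  rw [(seven h P).1, h] at this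
  omega

end H4.G168
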