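import Cfsg.Agent.Lib.H4.LX5
import Cfsg.Agent.Lib.Transfer.Residual
import Cfsg.Agent.S3300

/-!
No simple group has an involution centralizer of shape `2^(1+8).K` with `A₃ × A₆ < K ≤ S₃ × S₆`.
-/

set_option autoImplicit false

namespace H4.LX

open H95 Subgroup Cfsg

theorem main {G : Type*} [Group G] [Finite G] [IsSimpleGroup G] {z : G} (hz : orderOf z = 2)
    (Q : Subgroup (centralizer ({z} : Set G))) [Q.Normal]
    (hO : pCore 2 (centralizer ({z} : Set G)) = Q) (hQ : IsExtraspecial 2 Q)
    (h9 : Nat.card Q = 2 ^ 9) (hC : centralizer (Q : Set (centralizer ({z} : Set G))) ≤ Q)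
    {f : centralizer ({z} : Set G) ⧸ Q →* P3 × P6} (hf : Emb f) (odd : ∃ k, e1 f k ≠ 1) : False := by
  have hQ' : IsExtraspecial 2 (Q.map (centralizer ({z} : Set G)).subtype) := isExtraspecial_of_equiv
    (Q.equivMapOfInjective _ (centralizer ({z} : Set G)).subtype_injective) hQ
  have h9' := (card_map_cent Q).trans h9
  have key : ∀ g, g * z = z * g → (∀ x ∈ Q.map (centralizer ({z} : Set G)).subtype, x * g = g * x) →
      g ∈ Q.map (centralizer ({z} : Set G)).subtype := by
    intro g hg hc
    rw [mem_map_cent]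
    refine ⟨mem_cent_iff.2 hg, hC ?_⟩
    rw [mem_centralizer_iff]
    intro y hy
    exact Subtype.ext (hc y (mem_map_of_mem _ hy))
  have hc : ∀ x ∈ Q.map (centralizer ({z} : Set G)).subtype, x * z = z * x := fun x hx =>
    mem_cent_iff.1 (mem_map_cent.1 hx).1
  have hzQ := key z rfl hc
  have hE := ES_of_central hQ' hzQ (ne_one_of_orderOf_eq_two hz) hc
  have h : L3 (Q.map (centralizer ({z} : Set G)).subtype) z := by
    refine ⟨hE, fun g hg => hE.nondeg g (key g (hg z hzQ).symm hg) fun y hy => (hg y hy).symm, ?_⟩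
    intro g hg
    apply mem_normalizer_of_finite
    rintro _ ⟨y, hy, rfl⟩
    exact ⟨_, ‹Q.Normal›.conj_mem y hy ⟨g, mem_cent_iff.2 hg⟩, rfl⟩
  have hres : pResidual 2 G = ⊤ := by
    refine (pResidual_normal 2 G).eq_bot_or_eq_top.resolve_left fun e => ?_
    obtain ⟨d, hd⟩ := hf.rng c3 1 c3_sign (map_one _)
    have d3 : orderOf d = 3 := orderOf_eq_prime (hf.inj (by simp [pow_three', hd, c3_three]))
      fun e => c3_ne (by rw [e, map_one] at hd; exact (congrArg Prod.fst hd).symm)
    have : 3 ∣ Nat.card G := ((d3 ▸ orderOf_dvd_natCard d).trans (card_quotient_dvd_card Q)).trans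
      (card_subgroup_dvd_card _)
    obtain ⟨x, hx⟩ := exists_prime_orderOf_dvd_card' 3 this
    have hx' : x ∈ pResidual 2 G := subset_closure (by
      show Nat.Coprime (orderOf x) 2
      rw [hx]; norm_num)
    rw [e, mem_bot] at hx'
    rw [hx', orderOf_one] at hx
    exact absurd hx (by norm_num)
  let ε := (e1 f).comp (QuotientGroup.mk' Q)
  obtain ⟨g, g1, g2⟩ := Cfsg.Agent.S3300.result hres z hz _ (by rw [hO]) hQ'
    (by rw [h.centralizer_eq]; exact h.zpowers_le) 4 (by norm_num) h9'
    (ε.ker.map (centralizer ({z} : Set G)).subtype) (map_subtype_le _) (fun k hk => by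
      ext x
      rw [mem_map_conj, mem_map_cent, mem_map_cent]
      constructor
      · rintro ⟨a, ha⟩
        have hx : x ∈ centralizer ({z} : Set G) := by
          simpa [mul_assoc] using mul_mem (mul_mem hk a) (inv_mem hk)
        refine ⟨hx, ?_⟩
        have := ε.normal_ker.conj_mem _ ha ⟨k, hk⟩
        convert this using 1
        ext; simp [mul_assoc]
      · rintro ⟨a, ha⟩
        exact ⟨mul_mem (mul_mem (inv_mem hk) a) hk, ε.normal_ker.conj_mem' _ ha ⟨k, hk⟩⟩)
    (by
      rw [relIndex, subgroupOf, comap_map_eq_self_of_injective (subtype_injective _),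
        index_eq_two_iff]
      obtain ⟨k, hk⟩ := odd
      obtain ⟨a, rfl⟩ := QuotientGroup.mk'_surjective Q k
      have ha : ε a = -1 := (Int.units_eq_one_or _).resolve_left hk
      refine ⟨a, fun b => ?_⟩
      simp only [MonoidHom.mem_ker, map_mul, ha]
      rcases Int.units_eq_one_or (ε b) with e | e <;> rw [e] <;> decide)
  refine g2 (no_conj h h9' (QuotientGroup.mk' Q) (QuotientGroup.mk'_surjective Q) (fun x => ?_) hf g1)
  rw [QuotientGroup.mk'_apply, QuotientGroup.eq_one_iff, mem_map_cent]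
  exact ⟨fun hx => ⟨x.2, hx⟩, fun ⟨_, hx⟩ => hx⟩

end H4.LX
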