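import Mathlib
import Cfsg.Agent.Base
import Cfsg.Agent.Lib.Suz.Main
import Cfsg.Agent.S2602
import Cfsg.Agent.S2603
import Cfsg.Agent.S2126
import Cfsg.Agent.S0205

/-! The outer automorphism group of a Bender group is solvable. -/

set_option autoImplicit false
open Subgroup Cfsg

namespace H4

theorem map_inn_congr {G H : Type*} [Group G] [Group H] (e : G ≃* H) :
    (Inn G).map (MulAut.congr e : MulAut G →* MulAut H) = Inn H := by
  have hc : ∀ g, MulAut.congr e (MulAut.conj g) = MulAut.conj (e g) := fun g => by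
    ext x
    simp [MulAut.congr]
  ext β
  constructor
  · rintro ⟨_, ⟨g, rfl⟩, rfl⟩
    exact ⟨e g, (hc g).symm⟩
  · rintro ⟨h, rfl⟩
    refine ⟨_, ⟨e.symm h, rfl⟩, ?_⟩
    have := hc (e.symm h)
    rw [e.apply_symm_apply] at this
    exact this

/-- Isomorphic groups have isomorphic outer automorphism groups. -/
def outEquiv {G H : Type*} [Group G] [Group H] (e : G ≃* H) : Out G ≃* Out H :=
  QuotientGroup.congr (Inn G) (Inn H) (MulAut.congr e) (map_inn_congr e)

theorem out_solvable_congr {G H : Type*} [Group G] [Group H] (e : G ≃* H)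
    (h : Group.IsSolvable (Out H)) : Group.IsSolvable (Out G) :=
  solvable_of_solvable_injective (f := (outEquiv e).toMonoidHom) (outEquiv e).injective

theorem solvable_of_cyclic_ker {X : Type*} [Group X] {n : ℕ} (φ : X →* Multiplicative (ZMod n))
    (h : IsCyclic φ.ker) : Group.IsSolvable X := by
  haveI : Group.IsSolvable φ.ker := isSolvable_of_comm (fun a b => h.isMulCommutative.is_comm.comm a b)
  exact solvable_of_ker_le_range φ.ker.subtype φ (by rw [range_subtype])

theorem out_solvable_of_isBender {G : Type*} [Group G] (h : H13.Suz.IsBender G) :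
    Group.IsSolvable (Out G) := by
  haveI : Fact (Nat.Prime 2) := ⟨Nat.prime_two⟩
  rcases h with ⟨F, _, _, ⟨n, hn, hF⟩, ⟨e⟩⟩ | ⟨F, _, _, m, hm, hF, ⟨e⟩⟩ | ⟨F, _, _, n, hn, hF, ⟨e⟩⟩
  · obtain ⟨φ, -, hc, -⟩ := Cfsg.Agent.S2602.result (p := 2) (f := n) (by omega) hF
      (by calc 4 = 2 ^ 2 := rfl
            _ ≤ 2 ^ n := Nat.pow_le_pow_right (by norm_num) hn)
    exact out_solvable_congr e (solvable_of_cyclic_ker φ hc)
  · refine out_solvable_congr e ?_
    have h1 := Cfsg.Agent.S2126.result hm hF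
    haveI : Finite (Out ↥(Cfsg.Lie.Sz F (2 ^ (m + 1)))) :=
      Nat.finite_of_card_ne_zero (by rw [h1]; omega)
    exact Cfsg.Agent.S0205.result (by rw [h1]; exact ⟨m, rfl⟩)
  · obtain ⟨φ, -, hc, -⟩ := Cfsg.Agent.S2603.result (p := 2) (f := n) (n := 3) (by omega) rfl hF
      le_rfl (by
        rintro ⟨-, h⟩
        have : 2 ^ 2 ≤ 2 ^ n := Nat.pow_le_pow_right (by norm_num) hn
        omega)
    exact out_solvable_congr e (solvable_of_cyclic_ker φ hc)

end H4
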