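import Cfsg.Agent.Lib.H4.TL3
import Cfsg.Agent.Lib.SL2.Klein

/-!
An involution `t` whose centraliser has the Sylow subgroup `⟨t⟩ × D` with `D` dihedral.
-/

set_option autoImplicit false

namespace H4.TL

open Subgroup H4.YM

variable {G : Type*} [Group G]

set_option hygiene false in
local notation "𝐃" => adj R v
set_option hygiene false in
local notation "𝐓" => adj (adj R v) t
set_option hygiene false in
local notation "𝐌" => adj R t
set_option hygiene false in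
local notation "𝐍" K:max => normalizer ((K : Subgroup G) : Set G)

theorem mul_iff_of_card [Finite G] {K' K : Subgroup G} (h : K' ≤ K)
    (hc : Nat.card K = 2 * Nat.card K') {x y : G} (hx : x ∈ K) (hy : y ∈ K) :
    x * y ∈ K' ↔ (x ∈ K' ↔ y ∈ K') := by
  have h2 : (K'.subgroupOf K).index = 2 := by
    have h1 := (K'.subgroupOf K).index_mul_card
    rw [Nat.card_congr (subgroupOfEquivOfLe h).toEquiv, hc] at h1
    exact Nat.eq_of_mul_eq_mul_right Nat.card_pos h1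
  exact mul_mem_iff_of_index_two h2 (a := ⟨x, hx⟩) (b := ⟨y, hy⟩)

/-- the dihedral case -/
structure CD (t z v y : G) (R : Subgroup G) : Prop where
  tt : t * t = 1
  Rt : ∀ r ∈ R, cj r t = t
  vt : cj v t = t
  vv : v * v = 1
  vR : v ∉ R
  inv : ∀ r ∈ R, cj v r = r⁻¹
  yR : y ∈ R
  yz : y * y = z
  z1 : z ≠ 1
  zz : z * z = 1
  uniq : ∀ r ∈ R, r * r = 1 → r = 1 ∨ r = z
  tD : t ∉ adj R v
  syl : Syl (adj (adj R v) t) (centralizer {t})
  conj : ∀ x ∈ adj R v, x * x = 1 → x ≠ 1 → ∃ c, cj c t = t ∧ cj c z = x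
  rot : ∀ a ∈ adj R v, ∀ b ∈ adj R v, H29.IsPair a b → ∃ τ, cj τ t = t ∧ cj τ a = b ∧ cj τ b = a * b

namespace CD

variable {t z v y : G} {R : Subgroup G} (E : CD t z v y R)
include E

theorem zR : z ∈ R := E.yz ▸ R.mul_mem E.yR E.yR
theorem t1 : t ≠ 1 := fun e => E.tD (e ▸ one_mem _)
theorem sqΩ {s : G} (h : IsConj t s) : s * s = 1 := by
  obtain ⟨g, rfl⟩ := isConj_iff_cj.1 h
  exact cj_sq E.tt
theorem iD : Idx R 𝐃 v :=
  idx_adj E.vR (fun r hr => by rw [E.inv r hr]; exact R.inv_mem hr) (E.vv ▸ R.one_mem)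
theorem Tt {x : G} (hx : x ∈ 𝐓) : cj x t = t := mem_cen.1 (E.syl.le hx)
theorem iT : Idx 𝐃 𝐓 t :=
  idx_adj E.tD (fun r hr => by rwa [cj_comm.1 (E.Tt (le_adj hr))]) (E.tt ▸ one_mem _)
theorem iM : Idx R 𝐌 t :=
  idx_adj (fun h => E.tD (le_adj h)) (fun r hr => by rwa [cj_comm.1 (E.Rt r hr)]) (E.tt ▸ one_mem _)
theorem MT : 𝐌 ≤ 𝐓 := adj_le (le_adj.trans le_adj) self_mem_adj
theorem ttu (u : G) : t * (t * u) = u := by rw [← mul_assoc, E.tt, one_mul]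
theorem tsq {x : G} (hx : x ∈ 𝐓) : t * x * (t * x) = x * x := by
  rw [mul_assoc, ← mul_assoc x, cj_eq_iff.1 (E.Tt hx), mul_assoc, E.ttu]
theorem Rc {a b : G} (ha : a ∈ R) (hb : b ∈ R) : a * b = b * a := by
  have := E.inv _ (R.mul_mem ha hb)
  rw [cj_mul, E.inv a ha, E.inv b hb, ← mul_inv_rev, inv_inj] at this
  exact this.symm
theorem vr {r : G} (hr : r ∈ R) : v * r * (v * r) = 1 := by
  rw [mul_inv_eq_iff_eq_mul.1 (E.inv r hr), mul_assoc, ← mul_inv_eq_iff_eq_mul.1 (E.inv r hr),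
    ← mul_assoc v, E.vv, one_mul, inv_mul_cancel]
theorem memM {x : G} (hx : x ∈ 𝐓) (h : x * x ≠ 1) : x ∈ 𝐌 := by
  rcases E.iT.cases hx with h1 | ⟨d, hd, rfl⟩
  · exact le_adj ((E.iD.cases h1).resolve_right fun ⟨r, hr, e⟩ => h (e ▸ E.vr hr))
  · rw [E.tsq (le_adj hd)] at h
    exact mul_mem self_mem_adj
      (le_adj ((E.iD.cases hd).resolve_right fun ⟨r, hr, e⟩ => h (e ▸ E.vr hr)))
theorem My {m : G} (hm : m ∈ 𝐌) : y * m = m * y := by
  rcases E.iM.cases hm with h | ⟨r, hr, rfl⟩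
  · exact E.Rc E.yR h
  · rw [← mul_assoc, cj_eq_iff.1 (E.Rt y E.yR), mul_assoc, E.Rc E.yR hr, mul_assoc]
theorem Tz {x : G} (hx : x ∈ 𝐓) : cj x z = z :=
  cj_comm.1 (le_cen_adj (le_cen_adj (fun r hr => cj_eq_iff.2 (E.Rc E.zR hr))
    (cj_comm.1 (by rw [E.inv z E.zR, inv_eq_of_mul_eq_one_right E.zz]))) (E.Rt z E.zR) x hx)
theorem pair : H29.IsPair z v :=
  ⟨E.zz, E.z1, E.vv, fun e => E.vR (e ▸ R.one_mem), fun e => E.vR (e ▸ E.zR),
    (cj_eq_iff.1 (by rw [E.inv z E.zR, inv_eq_of_mul_eq_one_right E.zz])).symm⟩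

variable [Finite G]

theorem cardM : Nat.card 𝐓 = 2 * Nat.card 𝐌 := by rw [E.iT.card, E.iD.card, E.iM.card]

theorem four : 4 ∣ Nat.card R := by
  have : orderOf y = 2 ^ (1 + 1) := orderOf_eq_prime_pow (by simpa [pow_two, E.yz] using E.z1)
    (by rw [show 2 ^ (1 + 1) = 2 * 2 from rfl, pow_mul, pow_two, pow_two, E.yz, E.zz])
  have h := orderOf_dvd_natCard R E.yR
  rwa [this] at h

theorem sylΩ {s : G} (hs : IsConj t s) {X : Subgroup G} (hX : IsPGroup 2 X)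
    (h : ∀ x ∈ X, cj x s = s) : ∃ c, cj c t = s ∧ X ≤ cm c 𝐓 := by
  obtain ⟨g, rfl⟩ := isConj_iff_cj.1 hs
  have S := E.syl.cm g
  rw [cm_cen] at S
  obtain ⟨c, hc, e⟩ := S.conj hX fun x hx => mem_cen.2 (h x hx)
  exact ⟨c * g, by rw [mul_cj, mem_cen.1 hc], by rwa [cm_mul]⟩

theorem nΩD {x : G} (hx : x ∈ 𝐃) : ¬ IsConj t x := fun h => by
  obtain ⟨c, -, rfl⟩ := E.conj x hx (E.sqΩ h) fun e => E.t1 (isConj_one_left.1 (e ▸ h))
  rw [isConj_cj] at h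
  obtain ⟨c, hc, e⟩ := E.sylΩ h (pg_le E.syl.pg (zpowers_le.2 (le_adj (le_adj E.yR))))
    fun x hx => cj_eq_iff.2 (E.Rc (zpowers_le.2 E.yR hx) E.zR)
  have h1 := mem_cm.1 (e (mem_zpowers y))
  have h2 := (Idx.mul_iff E.iT h1 h1).2 Iff.rfl
  rw [← cj_mul, E.yz, inv_cj_eq.2 hc] at h2
  exact E.tD h2

theorem case1 (hG : ∀ H : Subgroup G, H.index ≠ 2) (h : ¬ IsConj t (t * z)) : False := by
  refine transfer hG E.tt (E.syl.mono le_normalizer fun g hg => mem_cen.2 ?_).top_of_norm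
    E.iT.card fun x => E.nΩD
  have h3 : IsConj t (cj g t) := (isConj_cj g).2 (IsConj.refl t)
  obtain ⟨d, hd, e⟩ := (E.iT.cases (mem_norm.1 hg t self_mem_adj)).resolve_left fun h => E.nΩD h h3
  by_cases e1 : d = 1
  · rw [e, e1, mul_one]
  rw [e] at h3
  obtain ⟨c, h1, rfl⟩ := E.conj d hd (by rw [← E.tsq (le_adj hd), E.sqΩ h3]) e1
  rw [← isConj_cj c, cj_mul, h1] at h
  exact absurd h3 h

theorem Ωt (h : IsConj t (t * z)) {d : G} (hd : d ∈ 𝐃) (h2 : d * d = 1) : IsConj t (t * d) := by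
  by_cases e1 : d = 1
  · rw [e1, mul_one]
  obtain ⟨c, h1, rfl⟩ := E.conj d hd h2 e1
  rwa [← isConj_cj c, cj_mul, h1] at h

theorem cntT (h : IsConj t (t * z)) : cnt (IsConj t) 1 𝐓 = 2 + Nat.card R := by
  rw [E.iT.cnt, cnt_none (by simpa using fun x => E.nΩD), zero_add, one_mul, E.iD.cnt,
    cnt_all (g := t * v) fun r hr => by
      rw [mul_assoc]; exact E.Ωt h (mul_mem self_mem_adj (le_adj hr)) (E.vr hr),
    ← Set.ncard_pair E.z1.symm, cnt]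
  congr 2
  ext r
  constructor
  · rintro ⟨hr, h2⟩
    exact E.uniq r hr (by rw [← E.tsq (le_adj (le_adj hr)), E.sqΩ h2])
  · rintro (rfl | rfl)
    · exact ⟨R.one_mem, by rw [mul_one]⟩
    · exact ⟨E.zR, h⟩

theorem exP (hG : ∀ H : Subgroup G, H.index ≠ 2) (h : IsConj t (t * z)) :
    ∃ P, Syl P ⊤ ∧ ∀ p ∈ P, ∀ q ∈ P, p * cj q p⁻¹ ∈ 𝐌 := by
  obtain ⟨P, hP, S⟩ := exists_syl E.syl.pg (le_top : 𝐓 ≤ ⊤)
  have hc : Nat.card P = 2 * Nat.card 𝐓 := by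
    have k := key hG E.tt 𝐓
    obtain ⟨m, hm, e⟩ := E.syl.odd
    obtain ⟨m', hm', e'⟩ := S.odd
    obtain ⟨j, hj⟩ := card_dvd_of_le hP
    obtain ⟨a, ha⟩ := pg_card S.pg
    obtain ⟨i, -, rfl⟩ := (Nat.dvd_prime_pow Nat.prime_two).1 (ha ▸ hj ▸ dvd_mul_left j _)
    obtain ⟨f, hf⟩ := E.four
    rw [card_top] at e'
    rw [E.cntT h, e, e', hj, mul_left_comm, mul_assoc, mul_comm 4] at k
    have k2 := Nat.ModEq.mul_left_cancel' Nat.card_pos.ne' k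
    rw [hj, mul_comm]
    congr 1
    obtain ⟨m, rfl⟩ := hm
    obtain ⟨m', rfl⟩ := hm'
    rw [hf, Nat.ModEq, show (2 + 4 * f) * (2 * m + 1) = 2 + 4 * (m + f * (2 * m + 1)) by ring,
      Nat.add_mul_mod_self_left] at k2
    rcases i with _ | _ | i
    · omega
    · rfl
    · rw [show 2 ^ (i + 1 + 1) * (2 * m' + 1) = 4 * (2 ^ i * (2 * m' + 1)) by ring] at k2
      omega
  have h1 : ∀ a ∈ P, ∀ x ∈ 𝐓, cj a x ∈ 𝐓 := fun a ha x hx => by
    rw [cj, mul_iff_of_card hP hc (P.mul_mem ha (hP hx)) (P.inv_mem ha),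
      mul_iff_of_card hP hc ha (hP hx), inv_mem_iff]
    tauto
  have h2 : ∀ a ∈ P, ∀ x ∈ 𝐓, x * x ≠ 1 → cj a x ∈ 𝐌 := fun a ha x hx h =>
    E.memM (h1 a ha x hx) (by rwa [← cj_mul, Ne, cj_eq_one])
  have h3 : ∀ a ∈ P, ∀ x ∈ 𝐌, cj a x ∈ 𝐌 := fun a ha x hx => by
    by_cases h : x * x = 1
    · have hy := E.MT (le_adj E.yR)
      have := h2 a ha _ (mul_mem (E.MT hx) hy) (by
        rw [mul_assoc, ← mul_assoc y, E.My hx, mul_assoc, ← mul_assoc, h, one_mul, E.yz]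
        exact E.z1)
      rw [cj_mul] at this
      exact (mul_mem_cancel_right (h2 a ha y hy (E.yz ▸ E.z1))).1 this
    · exact h2 a ha x (E.MT hx) h
  have h4 : ∀ a ∈ P, ∀ x ∈ 𝐓, cj a x * x⁻¹ ∈ 𝐌 := fun a ha x hx => by
    rw [mul_iff_of_card E.MT E.cardM (h1 a ha x hx) (inv_mem hx), inv_mem_iff]
    exact ⟨fun h => by simpa only [inv_cj_cj] using h3 _ (P.inv_mem ha) _ h, h3 a ha x⟩
  refine ⟨P, S, fun p hp q hq => ?_⟩
  by_cases h5 : p ∈ 𝐓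
  · simpa [cj, mul_assoc] using inv_mem (h4 q hq p h5)
  by_cases h6 : q ∈ 𝐓
  · simpa [cj, mul_assoc] using h4 p hp q h6
  have := h3 p hp _ (h4 p hp _ ((mul_iff_of_card hP hc (P.inv_mem hp) hq).2 (by simp [h5, h6])))
  simpa [cj, mul_assoc] using this

theorem case2 (hG : ∀ H : Subgroup G, H.index ≠ 2) (h : IsConj t (t * z)) : False := by
  obtain ⟨P, SP, hP⟩ := E.exP hG h
  have pr := E.pair
  set V := closure ({z, v} : Set G)
  have zV : z ∈ V := subset_closure (by simp)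
  have vV : v ∈ V := subset_closure (by simp)
  have VD : V ≤ 𝐃 := (closure_le _).2 (by
    rintro _ (rfl | rfl)
    exacts [le_adj E.zR, self_mem_adj])
  have AT : adj V t ≤ 𝐓 := adj_le (VD.trans le_adj) self_mem_adj
  have iA : Idx V (adj V t) t := idx_adj (fun h => E.tD (VD h))
    (fun r hr => by rwa [cj_comm.1 (E.Tt (le_adj (VD hr)))]) (E.tt ▸ one_mem _)
  have nV : ∀ τ, cj τ z = v → cj τ v = z * v → ∀ x ∈ V, cj τ x ∈ V := fun τ h1 h2 x hx => by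
    rcases pr.mem_closure.1 hx with rfl | rfl | rfl | rfl
    · rw [cj_one]; exact V.one_mem
    · rwa [h1]
    · rw [h2]; exact V.mul_mem zV vV
    · rw [cj_mul, h1, h2]; exact V.mul_mem vV (V.mul_mem zV vV)
  obtain ⟨τ, τ1, τ2, τ3⟩ := E.rot z (VD zV) v (VD vV) pr
  have τN : τ ∈ 𝐍 (adj V t) := mem_norm.2 (adj_le_comap (fun x hx => le_adj (nV τ τ2 τ3 x hx))
    (by rw [τ1]; exact self_mem_adj))
  obtain ⟨σ, σN, σ1⟩ : ∃ σ ∈ 𝐍 (adj V t), cj σ t = t * (z * v) := by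
    obtain ⟨g, hg, e⟩ := E.sylΩ h (pg_le E.syl.pg AT) (fun x hx => by
      rw [cj_mul, E.Tt (AT hx), E.Tz (AT hx)])
    have mD : ∀ x ∈ V, cj g⁻¹ x ∈ 𝐃 := fun x hx => by
      refine (E.iT.cases (mem_cm.1 (e (le_adj hx)))).resolve_right fun ⟨d, hd, e'⟩ => ?_
      refine E.nΩD (VD hx) ((isConj_cj g⁻¹).1 (e' ▸ E.Ωt h hd ?_))
      rw [← E.tsq (le_adj hd), ← e']
      refine cj_sq ?_
      rcases pr.mem_closure.1 hx with rfl | rfl | rfl | rfl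
      exacts [mul_one _, E.zz, E.vv, pr.rot.sq₂]
    obtain ⟨c, c1, c2, c3⟩ := E.rot _ (mD z zV) _ (mD v vV) (pr.conj g⁻¹)
    have e1 : cj (g * c * g⁻¹) z = v := by rw [mul_cj, mul_cj, c2, cj_inv_cj]
    have e2 : cj (g * c * g⁻¹) v = z * v := by rw [mul_cj, mul_cj, c3, ← cj_mul, cj_inv_cj]
    have e3 : cj (g * c * g⁻¹) t = t * (z * v) := by
      have : cj (g * c * g⁻¹) (t * z) = t * z := by rw [mul_cj, mul_cj, inv_cj_eq.2 hg, c1, hg]
      rw [cj_mul, e1] at this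
      rw [← mul_assoc t, ← this, mul_assoc _ v, E.vv, mul_one]
    exact ⟨_, mem_norm.2 (adj_le_comap (fun x hx => le_adj (nV _ e1 e2 x hx))
      (by rw [e3]; exact mul_mem self_mem_adj (le_adj (V.mul_mem zV vV)))), e3⟩
  have o1 : cj (τ * σ) t = t * z := by
    rw [mul_cj, σ1, cj_mul, cj_mul, τ1, τ2, τ3, pr.comm, ← mul_assoc v, E.vv, one_mul]
  have o2 : cj (τ * (τ * σ)) t = t * v := by rw [mul_cj, o1, cj_mul, τ1, τ2]
  have ho : orb (𝐍 (adj V t)) t = (fun x => t * x) '' (V : Set G) := by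
    ext x
    constructor
    · rintro ⟨g, hg, rfl⟩
      obtain ⟨w, hw, e⟩ := (iA.cases (mem_norm.1 hg t self_mem_adj)).resolve_left
        fun h => E.nΩD (VD h) ((isConj_cj g).2 (IsConj.refl t))
      exact ⟨w, hw, e.symm⟩
    · rintro ⟨w, hw, rfl⟩
      rcases pr.mem_closure.1 hw with rfl | rfl | rfl | rfl
      · exact ⟨1, one_mem _, by simp [one_cj]⟩
      · exact ⟨_, mul_mem τN σN, o1⟩
      · exact ⟨_, mul_mem τN (mul_mem τN σN), o2⟩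
      · exact ⟨_, σN, σ1⟩
  obtain ⟨Q, hQ, SQ⟩ := exists_syl (pg_le E.syl.pg AT) le_normalizer
  have ho' := SQ.orb_pow (x := t) (k := 2) (by rw [ho, ncard_coset, pr.isKleinFour.1]; rfl)
  obtain ⟨g, -, hg⟩ := SP.conj SQ.pg le_top
  have fin : ∀ x ∈ V, x * x = 1 → x ≠ 1 → cj g⁻¹ x = z := fun x hx xx x1 => by
    obtain ⟨q, hq, e⟩ : t * x ∈ orb Q t := by rw [ho', ho]; exact ⟨x, hx, rfl⟩
    have := hP _ (mem_cm.1 (hg (hQ self_mem_adj))) _ (mem_cm.1 (hg hq))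
    rw [← cj_inv, cj_cj, ← cj_mul, inv_eq_of_mul_eq_one_right E.tt, e, E.ttu] at this
    rcases E.iM.cases this with h1 | ⟨r, hr, e'⟩
    · exact (E.uniq _ h1 (cj_sq xx)).resolve_left (mt cj_eq_one.1 x1)
    · refine absurd ((isConj_cj g⁻¹).1 (e' ▸ E.Ωt h (le_adj hr) ?_)) (E.nΩD (VD hx))
      rw [← E.tsq (le_adj (le_adj hr)), ← e']
      exact cj_sq xx
  exact pr.ne (cj_inj g⁻¹ ((fin z zV E.zz E.z1).trans (fin v vV E.vv pr.ne₂).symm))

theorem false (hG : ∀ H : Subgroup G, H.index ≠ 2) : False :=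
  E.case1 hG (E.case2 hG)

end CD

end H4.TL
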