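import Cfsg.Agent.Lib.H4.TL1
import Cfsg.Agent.Lib.SL2.Invol
import Cfsg.Agent.Lib.SL2.Borel

/-!
Sylow `2`-subgroups of `PSL₂(q)` and their fusion.
-/

set_option autoImplicit false

namespace H4.TL

open Subgroup H4.YM Matrix MatrixGroups

variable {L : Type*} [Group L]

/-- elementary abelian type -/
structure LE (P : Subgroup L) : Prop where
  sq : ∀ x ∈ P, x * x = 1
  four : 4 ≤ Nat.card P
  tr : ∀ u ∈ P, ∀ v ∈ P, u ≠ 1 → v ≠ 1 → ∃ l, (∀ x ∈ P, cj l x ∈ P) ∧ cj l u = v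
  comm : ∀ a b, (∀ x ∈ P, cj a x ∈ P) → (∀ x ∈ P, cj b x ∈ P) → ∀ u ∈ P,
    cj (a * b) u = cj (b * a) u

/-- dihedral type -/
structure LD (P : Subgroup L) (z v y : L) (R : Subgroup L) : Prop where
  I : Idx R P v
  vv : v * v = 1
  inv : ∀ r ∈ R, cj v r = r⁻¹
  yR : y ∈ R
  yz : y * y = z
  z1 : z ≠ 1
  zz : z * z = 1
  uniq : ∀ r ∈ R, r * r = 1 → r = 1 ∨ r = z
  conj : ∀ x, x * x = 1 → x ≠ 1 → ∃ c, cj c z = x
  rot : ∀ a b : L, H29.IsPair a b → ∃ τ, cj τ a = b ∧ cj τ b = a * b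

theorem LE.cm {P : Subgroup L} (h : LE P) (g : L) : LE (cm g P) := by
  have key : ∀ a, (∀ x ∈ YM.cm g P, cj a x ∈ YM.cm g P) → ∀ x ∈ P, cj (cj g⁻¹ a) x ∈ P :=
    fun a ha x hx => by
      have := mem_cm.1 (ha _ (cj_mem_cm.2 hx))
      rwa [← cj_cj g⁻¹, inv_cj_cj] at this
  refine ⟨fun x hx => ?_, by rw [card_cm]; exact h.four, fun u hu v hv u1 v1 => ?_,
    fun a b ha hb u hu => ?_⟩
  · have := h.sq _ (mem_cm.1 hx)
    rwa [← cj_mul, cj_eq_one] at this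
  · obtain ⟨l, h1, h2⟩ := h.tr _ (mem_cm.1 hu) _ (mem_cm.1 hv) (mt cj_eq_one.1 u1)
      (mt cj_eq_one.1 v1)
    refine ⟨cj g l, fun x hx => ?_, by rw [← cj_inv_cj g u, cj_cj, h2, cj_inv_cj]⟩
    rw [← cj_inv_cj g x, cj_cj]
    exact cj_mem_cm.2 (h1 _ (mem_cm.1 hx))
  · have := h.comm _ _ (key a ha) (key b hb) _ (mem_cm.1 hu)
    rwa [← cj_mul, ← cj_mul, cj_cj, cj_cj, (cj_inj _).eq_iff] at this

theorem dihInv_cm {j : L} {R : Subgroup L} (D : H29.DihInv j R) (g : L) :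
    H29.DihInv (cj g j) (cm g R) where
  sq := cj_sq D.sq
  ne := mt cj_eq_one.1 D.ne
  conj s h1 h2 := let ⟨c, hc⟩ := D.conj s h1 h2; ⟨c * g⁻¹, by rw [← hc]; simp [cj, mul_assoc]⟩
  le r hr := by rw [← cj_inv_cj g r, ← cj_mul, ← cj_mul, D.le _ (mem_cm.1 hr)]
  card := by rw [← cm_cen, card_cm, card_cm, D.card]
  inv s hs := by
    obtain ⟨s, rfl⟩ : ∃ x, cj g x = s := ⟨_, cj_inv_cj g s⟩
    rw [← cj_mul, ← cj_mul, (cj_inj g).eq_iff] at hs
    rw [cj_mem_cm, ← D.inv s hs, ← cj_mul, cj_eq_one, Ne, cj_eq_one, Ne, Ne, Ne, (cj_inj g).eq_iff]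

variable [Finite L]

theorem le_of_klein {P : Subgroup L} (S : Syl P ⊤) {z v : L} (pr : H29.IsPair z v)
    (hP : closure {z, v} = P)
    (rot : ∀ a b : L, H29.IsPair a b → ∃ τ, cj τ a = b ∧ cj τ b = a * b) : LE P := by
  have hK : IsKleinFour P := hP ▸ pr.isKleinFour
  have mem : ∀ {x}, x ∈ P ↔ x = 1 ∨ x = z ∨ x = v ∨ x = z * v := hP ▸ pr.mem_closure
  have sq : ∀ x ∈ P, x * x = 1 := fun x hx => by
    rcases mem.1 hx with rfl | rfl | rfl | rfl
    exacts [mul_one _, pr.sq₁, pr.sq₂, pr.rot.sq₂]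
  have zP : z ∈ P := mem.2 (by simp)
  have vP : v ∈ P := mem.2 (by simp)
  have e1 : v * (z * v) = z := by rw [pr.comm, ← mul_assoc, pr.sq₂, one_mul]
  have e2 : z * v * z = v := by rw [pr.comm, mul_assoc, pr.sq₁, mul_one]
  have e3 : z * (z * v) = v := by rw [← mul_assoc, pr.sq₁, one_mul]
  have e4 : z * v * v = z := by rw [mul_assoc, pr.sq₂, mul_one]
  have typ : ∀ a, (∀ x ∈ P, cj a x ∈ P) → (cj a z = z ∧ cj a v = v) ∨
      (cj a z = v ∧ cj a v = z * v) ∨ (cj a z = z * v ∧ cj a v = z) := fun a ha => by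
    have ns : ∀ x ∈ P, ∀ y, cj a x = y → cj a y = x → x = y := fun x hx y h1 h2 => by
      obtain ⟨m, hm, e⟩ := S.odd_pow (fun a ha b hb => cj_eq_iff.2
        (comm_of_sq (sq a ha) (sq b hb) (sq _ (P.mul_mem ha hb)))) (mem_top a) (mem_norm.2 ha)
      rw [← e x hx, cj_pow_swap h1 h2 hm]
    have ne : cj a z ≠ cj a v := fun e => pr.ne (cj_inj a e)
    rcases (mem.1 (ha z zP)).resolve_left (mt cj_eq_one.1 pr.ne₁) with h1 | h1 | h1 <;>
      rcases (mem.1 (ha v vP)).resolve_left (mt cj_eq_one.1 pr.ne₂) with h2 | h2 | h2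
    · exact absurd (h1.trans h2.symm) ne
    · exact Or.inl ⟨h1, h2⟩
    · exact absurd (ns v vP _ h2 (by rw [cj_mul, h1, h2, e3])) pr.rot.ne
    · exact absurd (ns z zP _ h1 h2) pr.ne
    · exact absurd (h1.trans h2.symm) ne
    · exact Or.inr (Or.inl ⟨h1, h2⟩)
    · exact Or.inr (Or.inr ⟨h1, h2⟩)
    · exact absurd (ns z zP _ h1 (by rw [cj_mul, h1, h2, e4])) (by simpa using pr.ne₂)
    · exact absurd (h1.trans h2.symm) ne
  refine ⟨sq, hK.1.ge, fun u hu w hw u1 w1 => ?_, fun a b ha hb u hu => ?_⟩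
  · by_cases h : u = w
    · exact ⟨1, fun x hx => by rwa [one_cj], by rw [one_cj, h]⟩
    have p := H29.isPair_of_mem hK hu hw u1 w1 h
    obtain ⟨τ, h1, h2⟩ := rot u w p
    refine ⟨τ, fun x hx => ?_, h1⟩
    rw [← p.closure_eq hK hu hw, p.mem_closure] at hx
    rcases hx with rfl | rfl | rfl | rfl
    · rw [cj_one]; exact P.one_mem
    · rwa [h1]
    · rw [h2]; exact P.mul_mem hu hw
    · rw [cj_mul, h1, h2]; exact P.mul_mem hw (P.mul_mem hu hw)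
  · have : cj (a * b) z = cj (b * a) z ∧ cj (a * b) v = cj (b * a) v := by
      rcases typ a ha with ⟨a1, a2⟩ | ⟨a1, a2⟩ | ⟨a1, a2⟩ <;>
        rcases typ b hb with ⟨b1, b2⟩ | ⟨b1, b2⟩ | ⟨b1, b2⟩ <;>
        simp only [mul_cj, cj_mul, a1, a2, b1, b2, e1, e2, and_self]
    rcases mem.1 hu with rfl | rfl | rfl | rfl
    · rw [cj_one, cj_one]
    · exact this.1
    · exact this.2
    · rw [cj_mul, cj_mul, this.1, this.2]

theorem le_or_ld {j : L} {R : Subgroup L} (D : H29.DihInv j R) {P : Subgroup L} (S : Syl P ⊤)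
    (rot : ∀ a b : L, H29.IsPair a b → ∃ τ, cj τ a = b ∧ cj τ b = a * b) :
    LE P ∨ ∃ z v y R, LD P z v y R := by
  have hP : P ≠ ⊥ := fun e => by
    obtain ⟨h, -, h2⟩ := S.conj (pg_zpowers (x := j) (k := 1) (by simpa [pow_two] using D.sq)) le_top
    have := mem_cm.1 (h2 (mem_zpowers j))
    rw [e, mem_bot, cj_eq_one] at this
    exact D.ne this
  obtain ⟨z, hz, zz, z1, zc⟩ := exists_central S.pg hP
  obtain ⟨g, hg⟩ := D.conj z zz z1
  replace D := dihInv_cm D g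
  rw [show cj g j = z from hg] at D
  generalize cm g R = R at D
  obtain ⟨⟨v, pr⟩⟩ := (Nat.card_pos_iff.1 (Nat.card_pos.trans_eq D.card_refl.symm)).1
  obtain ⟨c, hc, h2⟩ := (S.mono (fun x hx => mem_cen.2 (zc x hx)) le_top).conj
    (pg_zpowers (x := v) (k := 1) (by simpa [pow_two] using pr.sq₂))
    (zpowers_le.2 (mem_centralizer_singleton_iff.2 pr.comm.symm))
  have hv := mem_cm.1 (h2 (mem_zpowers v))
  replace pr := pr.conj c⁻¹
  change H29.IsPair (cj c⁻¹ z) (cj c⁻¹ v) at pr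
  rw [inv_cj_eq.2 (mem_cen.1 hc)] at pr
  generalize cj c⁻¹ v = v at pr hv
  have I : Idx (P ⊓ R) P v := ⟨inf_le_left, hv, fun h => (D.isPair_iff.1 pr).2 h.2, fun x hx => by
    by_cases h : x ∈ R
    · exact Or.inl ⟨hx, h⟩
    · refine Or.inr ⟨P.mul_mem (P.inv_mem hv) hx, ?_⟩
      rw [inv_eq_of_mul_eq_one_right pr.sq₂]
      exact D.mul_mem pr (D.isPair_iff.2 ⟨(cj_eq_iff.1 (zc x hx)).symm, h⟩)⟩
  have uniq : ∀ r ∈ R, r * r = 1 → r = 1 ∨ r = z := fun r hr h => by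
    by_contra hc
    push Not at hc
    exact (D.inv r (D.le r hr)).1 ⟨h, hc.1, hc.2.symm⟩ hr
  by_cases hy : ∃ y ∈ P ⊓ R, y * y = z
  · obtain ⟨y, hy, e⟩ := hy
    exact Or.inr ⟨z, v, y, _, I, pr.sq₂, fun r hr => D.conj_eq_inv hr.2 pr, hy, e, z1, zz,
      fun r hr => uniq r hr.2, D.conj, rot⟩
  push Not at hy
  have sq : ∀ k, ∀ r ∈ P ⊓ R, r ^ 2 ^ k = 1 → r * r = 1 := fun k => by
    induction k with
    | zero => exact fun r _ h => by rw [pow_zero, pow_one] at h; rw [h, mul_one]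
    | succ k ih =>
      intro r hr h
      exact (uniq _ (R.mul_mem hr.2 hr.2) (ih _ (mul_mem hr hr)
        (by rw [← pow_two, ← pow_mul, ← pow_succ', h]))).resolve_right (hy r hr)
  have mem : ∀ r ∈ P ⊓ R, r = 1 ∨ r = z := fun r hr =>
    let ⟨k, hk⟩ := pg_pow S.pg hr.1; uniq r hr.2 (sq k r hr hk)
  refine Or.inl (le_of_klein S pr (le_antisymm ((closure_le _).2 ?_) fun x hx => ?_) rot)
  · rintro _ (rfl | rfl)
    exacts [hz, hv]
  · rw [pr.mem_closure]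
    rcases I.cases hx with h | ⟨r, hr, rfl⟩
    · exact (mem x h).imp_right Or.inl
    · rcases mem r hr with rfl | rfl
      · simp
      · simp [pr.comm]

theorem LE.cen {P : Subgroup L} (h : LE P) (S : Syl P ⊤) {x : L} (xx : x * x = 1)
    (hc : ∀ g, cj g x = x) : x = 1 := by
  classical
  by_contra x1
  have hx : x ∈ P := S.normal_le (pg_zpowers (x := x) (k := 1) (by simpa [pow_two] using xx)) le_top
    (fun g _ y ⟨k, e⟩ => ⟨k, by rw [← e, cj, ← conj_zpow, ← cj, hc]⟩) (mem_zpowers x)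
  obtain ⟨v, hv, h2⟩ := exists_notMem (K := P) (s := {1, x})
    (lt_of_le_of_lt Finset.card_le_two (by have := h.four; omega))
  simp only [Finset.mem_insert, Finset.mem_singleton, not_or] at h2
  obtain ⟨l, -, e⟩ := h.tr x hx v hv x1 h2.1
  exact h2.2 (by rw [← e, hc])

omit [Finite L] in
theorem LD.cen {P R : Subgroup L} {z v y : L} (h : LD P z v y R) {x : L} (xx : x * x = 1)
    (hc : ∀ g, cj g x = x) : x = 1 := by
  by_contra x1
  obtain ⟨c, e⟩ := h.conj x xx x1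
  obtain ⟨d, e'⟩ := h.conj v h.vv fun e => h.I.nmem (e ▸ R.one_mem)
  rw [← inv_cj_eq, hc] at e
  rw [← e, hc, e] at e'
  exact h.I.nmem (e' ▸ h.yz ▸ R.mul_mem h.yR h.yR)

variable {F : Type*} [Field F]

/-- an upper unitriangular element -/
def uu (c : F) : PSL(2, F) := (H29.mkSL 1 c 0 1 (by simp) : SL(2, F))

theorem mem_unitri {x : PSL(2, F)} : x ∈ H29.unitriPSL F ↔ ∃ c, uu c = x := by
  constructor
  · rintro ⟨g, hg, rfl⟩
    obtain ⟨h1, h2, h3⟩ := H10.mem_unitriSL_two.1 hg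
    exact ⟨g.1 0 1, congrArg QuotientGroup.mk (H29.sl_ext (by simp [H29.mkSL_val, h2])
      (by simp [H29.mkSL_val]) (by simp [H29.mkSL_val, h1]) (by simp [H29.mkSL_val, h3]))⟩
  · rintro ⟨c, rfl⟩
    exact ⟨_, H10.mem_unitriSL_two.2 (by simp [H29.mkSL_val]), rfl⟩

theorem uu_mul (c d : F) : uu c * uu d = uu (c + d) :=
  congrArg QuotientGroup.mk (by simp [H29.sl_ext_iff, H29.sl_mul_apply, H29.mkSL_val, add_comm])

theorem uu_eq_one {c : F} : uu c = 1 ↔ c = 0 := by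
  rw [uu, H29.psl_mk_eq_one_iff]; simp [H29.mkSL_val]

theorem cj_uu {g : SL(2, F)} (h : g.1 1 0 = 0) (c : F) :
    cj (g : PSL(2, F)) (uu c) = uu (g.1 0 0 ^ 2 * c) := by
  rw [cj, mul_inv_eq_iff_eq_mul]
  refine congrArg QuotientGroup.mk ?_
  have hd := H29.sl_det g
  rw [h, mul_zero, sub_zero] at hd
  simp only [H29.sl_ext_iff, H29.sl_mul_apply, H29.mkSL_val]
  simp [h]
  linear_combination (-g.1 0 0 * c) * hd

theorem le_unitri [Finite F] (h2 : (2 : F) = 0) (h4 : 4 ≤ Nat.card F) : LE (H29.unitriPSL F) := by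
  have nb : ∀ a : PSL(2, F), (∀ x ∈ H29.unitriPSL F, cj a x ∈ H29.unitriPSL F) →
      ∃ s : F, ∀ c, cj a (uu c) = uu (s * c) := fun a ha => by
    have := H29.normalizer_unitriPSL.le (mem_norm.2 ha)
    induction a using QuotientGroup.induction_on with | H g =>
    exact ⟨_, cj_uu (H29.mk_mem_borelPSL.1 this)⟩
  refine ⟨fun x hx => ?_, h4.trans (Nat.card_le_card_of_injective
    (fun c => (⟨uu c, mem_unitri.2 ⟨c, rfl⟩⟩ : H29.unitriPSL F)) fun c d e => ?_),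
    fun u hu v hv u1 v1 => ?_, fun a b ha hb u hu => ?_⟩
  · obtain ⟨c, rfl⟩ := mem_unitri.1 hx
    rw [uu_mul, uu_eq_one, ← two_mul, h2, zero_mul]
  · have : uu c * uu (-d) = 1 := by
      rw [show uu c = uu d from congrArg Subtype.val e, uu_mul, uu_eq_one, add_neg_cancel]
    rwa [uu_mul, uu_eq_one, add_neg_eq_zero] at this
  · obtain ⟨c, rfl⟩ := mem_unitri.1 hu
    obtain ⟨d, rfl⟩ := mem_unitri.1 hv
    have c0 := mt uu_eq_one.2 u1
    have d0 := mt uu_eq_one.2 v1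
    haveI := Fintype.ofFinite F
    obtain ⟨a, ha⟩ := FiniteField.isSquare_of_char_two
      (CharP.ringChar_of_prime_eq_zero Nat.prime_two (by exact_mod_cast h2)) (d / c)
    have a0 : a ≠ 0 := fun e => div_ne_zero d0 c0 (by rw [ha, e, mul_zero])
    refine ⟨(H29.mkSL a 0 0 a⁻¹ (by simp [a0]) : SL(2, F)), fun x hx => ?_, ?_⟩
    · obtain ⟨c, rfl⟩ := mem_unitri.1 hx
      exact mem_unitri.2 ⟨_, (cj_uu (by simp [H29.mkSL_val]) c).symm⟩
    · rw [cj_uu (by simp [H29.mkSL_val])]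
      simp [H29.mkSL_val, pow_two, ← ha, c0]
  · obtain ⟨c, rfl⟩ := mem_unitri.1 hu
    obtain ⟨s, hs⟩ := nb a ha
    obtain ⟨r, hr⟩ := nb b hb
    rw [mul_cj, mul_cj, hr, hs, hs, hr, mul_left_comm]

theorem psl_cases [Finite F] (h4 : 4 ≤ Nat.card F) {P : Subgroup PSL(2, F)} (S : Syl P ⊤) :
    LE P ∨ ∃ z v y R, LD P z v y R := by
  by_cases h2 : (2 : F) = 0
  · haveI : CharP F 2 := CharTwo.of_one_ne_zero_of_two_eq_zero one_ne_zero h2
    have S' : Syl (H29.unitriPSL F) ⊤ := by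
      rw [← H29.coe_unitriSylowPSL 2]
      exact ⟨(H29.unitriSylowPSL F 2).isPGroup', le_top, _,
        Nat.odd_iff.2 (Nat.two_dvd_ne_zero.1 (H29.unitriSylowPSL F 2).not_dvd_index),
        by rw [card_top, card_mul_index]⟩
    obtain ⟨g, -, hg⟩ := S'.conj S.pg le_top
    rw [← S.eq_of_le (pg_cm S'.pg g) le_top hg]
    exact Or.inl ((le_unitri h2 h4).cm g)
  · exact le_or_ld (H29.dihInv_psl h2) S fun a b h => H29.cj_rot h2 h

end H4.TL
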