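import Cfsg.Agent.Lib.H4.TL5
import Cfsg.Agent.Lib.H4.TL6
import Cfsg.Agent.Lib.H4.TL7

/-!
Lifting the structure of `ℤ₂ × L` to the centraliser of the involution `t`.
-/

set_option autoImplicit false

namespace H4.TL

open Subgroup H4.YM

variable {G : Type*} [Group G] {L : Type*} [Group L]

theorem Idx.eq_adj {K' K : Subgroup G} {h : G} (I : Idx K' K h) : adj K' h = K :=
  le_antisymm (adj_le I.le I.mem) fun x hx => by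
    rcases I.cases hx with h | ⟨k, hk, rfl⟩
    exacts [le_adj h, mul_mem self_mem_adj (le_adj hk)]

/-- the local data -/
structure Loc (t : G) (C T : Subgroup G) (Ψ : G → Multiplicative (ZMod 2) × L) : Prop where
  tt : t * t = 1
  t1 : t ≠ 1
  le : ∀ x ∈ C, cj x t = t
  nrm : ∀ g, cj g t = t → ∀ x ∈ C, cj g x ∈ C
  syl : Syl T (centralizer {t})
  TC : T ≤ C
  hom : ∃ ψ : C →* Multiplicative (ZMod 2) × L, Function.Surjective ψ ∧ ∀ x : C, ψ x = Ψ x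
  odd : ∀ x ∈ C, Ψ x = 1 → Odd (orderOf x)

namespace Loc

variable {t : G} {C T : Subgroup G} {Ψ : G → Multiplicative (ZMod 2) × L} (H : Loc t C T Ψ)
include H

theorem mul {x y : G} (hx : x ∈ C) (hy : y ∈ C) : Ψ (x * y) = Ψ x * Ψ y := by
  obtain ⟨ψ, -, e⟩ := H.hom
  rw [← e ⟨x, hx⟩, ← e ⟨y, hy⟩, ← map_mul, e]; rfl

theorem one : Ψ 1 = 1 := by
  obtain ⟨ψ, -, e⟩ := H.hom
  rw [← map_one ψ, e]; rfl

theorem inv {x : G} (hx : x ∈ C) : Ψ x⁻¹ = (Ψ x)⁻¹ := by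
  obtain ⟨ψ, -, e⟩ := H.hom
  rw [← e ⟨x, hx⟩, ← map_inv, e]; rfl

theorem pow {x : G} (hx : x ∈ C) (n : ℕ) : Ψ (x ^ n) = Ψ x ^ n := by
  obtain ⟨ψ, -, e⟩ := H.hom
  rw [← e ⟨x, hx⟩, ← map_pow, e]; rfl

theorem cjΨ {x y : G} (hx : x ∈ C) (hy : y ∈ C) : Ψ (cj x y) = cj (Ψ x) (Ψ y) := by
  rw [cj, H.mul (C.mul_mem hx hy) (C.inv_mem hx), H.mul hx hy, H.inv hx, cj]

theorem surj (m : Multiplicative (ZMod 2) × L) : ∃ x ∈ C, Ψ x = m := by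
  obtain ⟨ψ, h, e⟩ := H.hom
  obtain ⟨x, rfl⟩ := h m
  exact ⟨x, x.2, (e x).symm⟩

theorem inj {x y : G} (hx : x ∈ T) (hy : y ∈ T) (h : Ψ x = Ψ y) : x = y := by
  have h1 := T.mul_mem (T.inv_mem hx) hy
  have h2 := H.odd _ (H.TC h1) (by
    rw [H.mul (C.inv_mem (H.TC hx)) (H.TC hy), H.inv (H.TC hx), h, inv_mul_cancel])
  obtain ⟨k, hk⟩ := pg_pow H.syl.pg h1
  have h3 := Nat.Coprime.eq_one_of_dvd (Nat.Coprime.pow_right k (Nat.coprime_two_right.2 h2))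
    (orderOf_dvd_of_pow_eq_one hk)
  exact inv_mul_eq_one.1 (orderOf_eq_one_iff.1 h3)

/-- the complement of `t` -/
def U : Subgroup G where
  carrier := {x | x ∈ T ∧ (Ψ x).1 = 1}
  one_mem' := ⟨T.one_mem, by rw [H.one]; rfl⟩
  mul_mem' {x y} hx hy := ⟨T.mul_mem hx.1 hy.1, by
    rw [H.mul (H.TC hx.1) (H.TC hy.1), Prod.fst_mul, hx.2, hy.2, mul_one]⟩
  inv_mem' {x} hx := ⟨T.inv_mem hx.1, by rw [H.inv (H.TC hx.1), Prod.fst_inv, hx.2, inv_one]⟩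

theorem UC {x : G} (hx : x ∈ H.U) : x ∈ C := H.TC hx.1

/-- its image -/
def P : Subgroup L where
  carrier := {l | ∃ x ∈ H.U, (Ψ x).2 = l}
  one_mem' := ⟨1, H.U.one_mem, by rw [H.one]; rfl⟩
  mul_mem' := by
    rintro _ _ ⟨x, hx, rfl⟩ ⟨y, hy, rfl⟩
    exact ⟨_, H.U.mul_mem hx hy, by rw [H.mul (H.UC hx) (H.UC hy)]; rfl⟩
  inv_mem' := by
    rintro _ ⟨x, hx, rfl⟩
    exact ⟨_, H.U.inv_mem hx, by rw [H.inv (H.UC hx)]; rfl⟩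

theorem ext {x y : G} (hx : x ∈ H.U) (hy : y ∈ H.U) (h : (Ψ x).2 = (Ψ y).2) : x = y :=
  H.inj hx.1 hy.1 (Prod.ext (hx.2.trans hy.2.symm) h)

theorem mul2 {x y : G} (hx : x ∈ C) (hy : y ∈ C) : (Ψ (x * y)).2 = (Ψ x).2 * (Ψ y).2 := by
  rw [H.mul hx hy]; rfl

theorem cj2 {x y : G} (hx : x ∈ C) (hy : y ∈ C) : (Ψ (cj x y)).2 = cj (Ψ x).2 (Ψ y).2 := by
  rw [H.cjΨ hx hy]; rfl

theorem one2 : (Ψ 1).2 = 1 := by rw [H.one]; rfl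

theorem ne1 {x : G} (hx : x ∈ H.U) : (Ψ x).2 = 1 ↔ x = 1 :=
  ⟨fun h => H.ext hx H.U.one_mem (h.trans H.one2.symm), fun h => h ▸ H.one2⟩

theorem cardP : Nat.card H.U = Nat.card H.P :=
  Nat.card_congr (Equiv.ofBijective (fun u => ⟨(Ψ u).2, u, u.2, rfl⟩)
    ⟨fun u v e => Subtype.ext (H.ext u.2 v.2 (congrArg Subtype.val e)),
      fun ⟨_, u, hu, e⟩ => ⟨⟨u, hu⟩, Subtype.ext e⟩⟩)

variable [Finite G]

theorem tT : t ∈ T :=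
  H.syl.normal_le (pg_zpowers (x := t) (k := 1) (by simpa [pow_two] using H.tt))
    (zpowers_le.2 (mem_cen.2 (cj_eq_iff.2 rfl)))
    (fun g hg y ⟨k, e⟩ => ⟨k, by rw [← e, cj, ← conj_zpow, ← cj, mem_cen.1 hg]⟩) (mem_zpowers t)

theorem lift (l : L) : ∃ c ∈ C, ∀ x ∈ H.U, ∀ y ∈ H.U, (Ψ y).2 = cj l (Ψ x).2 → cj c x = y := by
  obtain ⟨c, hc, e⟩ := H.surj (1, l)
  let W : Subgroup G :=
    { carrier := {g | g ∈ C ∧ ∃ y ∈ T, Ψ g = Ψ y}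
      one_mem' := ⟨C.one_mem, 1, T.one_mem, rfl⟩
      mul_mem' := fun ⟨ha, a, ha', e⟩ ⟨hb, b, hb', e'⟩ => ⟨C.mul_mem ha hb, _, T.mul_mem ha' hb', by
        rw [H.mul ha hb, H.mul (H.TC ha') (H.TC hb'), e, e']⟩
      inv_mem' := fun ⟨ha, a, ha', e⟩ => ⟨C.inv_mem ha, _, T.inv_mem ha', by
        rw [H.inv ha, H.inv (H.TC ha'), e]⟩ }
  obtain ⟨w, ⟨hw, a, ha, e'⟩, h⟩ := (H.syl.mono (K := W) (fun x hx => ⟨H.TC hx, x, hx, rfl⟩)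
    fun x hx => mem_cen.2 (H.le x hx.1)).conj
    (pg_le (pg_cm H.syl.pg c) (inf_le_left : cm c T ⊓ W ≤ _)) inf_le_right
  have hd := C.mul_mem (H.TC ha) (C.inv_mem hw)
  refine ⟨a * w⁻¹ * c, C.mul_mem hd hc, fun x hx y hy e'' => ?_⟩
  have h1 : Ψ (cj c x) = Ψ y := by
    rw [H.cjΨ hc (H.UC hx), e]
    exact Prod.ext (by simp [cj, hx.2, hy.2]) e''.symm
  have h2 := mem_cm.1 (h ⟨cj_mem_cm.2 hx.1, cj_mem hc (H.UC hx), y, hy.1, h1⟩)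
  refine H.inj (by rw [mul_cj, mul_cj]; exact cj_mem ha h2) hy.1 ?_
  rw [mul_cj, H.cjΨ hd (cj_mem hc (H.UC hx)), h1, H.mul (H.TC ha) (C.inv_mem hw), H.inv hw, e',
    mul_inv_cancel, one_cj]

variable [Finite L] (hL : ∀ P : Subgroup L, Syl P ⊤ → LE P ∨ ∃ z v y R, LD P z v y R)
include hL

theorem idx : Idx H.U T t := by
  have h2 : (Ψ t).2 = 1 := by
    obtain ⟨P, -, S⟩ := exists_syl (IsPGroup.of_bot (p := 2)) (bot_le : ⊥ ≤ (⊤ : Subgroup L))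
    have h1 : (Ψ t).2 * (Ψ t).2 = 1 := by rw [← H.mul2 (H.TC H.tT) (H.TC H.tT), H.tt, H.one2]
    have h2 : ∀ g, cj g (Ψ t).2 = (Ψ t).2 := fun g => by
      obtain ⟨c, hc, e⟩ := H.surj (1, g)
      have := H.cj2 hc (H.TC H.tT)
      rwa [H.le c hc, e, eq_comm] at this
    rcases hL P S with h | ⟨z, v, y, R, h⟩
    exacts [h.cen S h1 h2, h.cen h1 h2]
  have h1 : t ∉ H.U := fun h => H.t1 ((H.ne1 h).1 h2)
  refine ⟨fun x hx => hx.1, H.tT, h1, fun x hx => ?_⟩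
  by_cases h : x ∈ H.U
  · exact Or.inl h
  refine Or.inr ⟨T.mul_mem (T.inv_mem H.tT) hx, ?_⟩
  rw [H.mul (C.inv_mem (H.TC H.tT)) (H.TC hx), H.inv (H.TC H.tT)]
  exact (by decide : ∀ a b : Multiplicative (ZMod 2), a ≠ 1 → b ≠ 1 → a⁻¹ * b = 1) _ _
    (fun e => h1 ⟨H.tT, e⟩) fun e => h ⟨hx, e⟩

theorem sylP : Syl H.P ⊤ := by
  refine syl_top_of (pg_of_pow ?_) fun h => ?_
  · rintro _ ⟨x, hx, rfl⟩
    obtain ⟨k, hk⟩ := pg_pow H.syl.pg hx.1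
    exact ⟨k, by rw [← Prod.pow_snd, ← H.pow (H.UC hx), hk, H.one2]⟩
  · obtain ⟨ψ, hψ, -⟩ := H.hom
    obtain ⟨m, hm, e⟩ := (H.syl.mono H.TC fun x hx => mem_cen.2 (H.le x hx)).odd
    have h1 := card_dvd_of_surjective ψ hψ
    rw [e, (H.idx hL).card, H.cardP, Nat.card_prod,
      show Nat.card (Multiplicative (ZMod 2)) = 2 from Nat.card_zmod 2,
      mul_assoc] at h1
    have h2 := h.trans (Nat.dvd_of_mul_dvd_mul_left two_pos h1)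
    rw [mul_comm 2] at h2
    exact hm.not_two_dvd_nat (Nat.dvd_of_mul_dvd_mul_left Nat.card_pos h2)

theorem ce (h : LE H.P) : ∃ B, CE t H.U B := by
  have I := H.idx hL
  let B : Subgroup G :=
    { carrier := {g | cj g t = t ∧ ∃ β ∈ C, (∀ u ∈ H.U, cj β u ∈ H.U) ∧ ∀ u ∈ H.U, cj g u = cj β u}
      one_mem' := ⟨one_cj t, 1, C.one_mem, fun u hu => by rwa [one_cj], fun _ _ => rfl⟩
      mul_mem' := fun ⟨ha, β, hβ, b1, b2⟩ ⟨hb, γ, hγ, c1, c2⟩ =>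
        ⟨by rw [mul_cj, hb, ha], β * γ, C.mul_mem hβ hγ,
          fun u hu => by rw [mul_cj]; exact b1 _ (c1 u hu),
          fun u hu => by rw [mul_cj, mul_cj, c2 u hu, b2 _ (c1 u hu)]⟩
      inv_mem' := fun ⟨ha, β, hβ, b1, b2⟩ => by
        have := mem_norm.1 (inv_mem (mem_norm.2 b1))
        exact ⟨inv_cj_eq.2 ha, β⁻¹, C.inv_mem hβ, this,
          fun u hu => by rw [inv_cj_eq, b2 _ (this u hu), cj_inv_cj]⟩ }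
  have nP : ∀ β ∈ C, (∀ u ∈ H.U, cj β u ∈ H.U) → ∀ x ∈ H.P, cj (Ψ β).2 x ∈ H.P := by
    rintro β hβ h1 _ ⟨u, hu, rfl⟩
    exact ⟨_, h1 u hu, H.cj2 hβ (H.UC hu)⟩
  refine ⟨B, H.tt, I.nmem, fun u hu => ?_, fun u hu => H.le u (H.UC hu), H.cardP ▸ h.four,
    (Idx.eq_adj I).symm ▸ H.syl, fun β hβ => hβ.1,
    fun β ⟨_, γ, _, c1, c2⟩ u hu => (c2 u hu).symm ▸ c1 u hu, fun u hu v hv u1 v1 => ?_,
    fun a ⟨_, β, hβ, b1, b2⟩ b ⟨_, γ, hγ, c1, c2⟩ u hu => ?_,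
    fun g h1 h2 a ⟨ha, β, hβ, b1, b2⟩ => ?_,
    fun g h1 h2 => ⟨h1, 1, C.one_mem, fun u hu => by rwa [one_cj], fun u hu => by
      rw [h2 u hu, one_cj]⟩⟩
  · rw [← H.ne1 (mul_mem hu hu), H.mul2 (H.UC hu) (H.UC hu)]
    exact h.sq _ ⟨u, hu, rfl⟩
  · obtain ⟨l, h1, h2⟩ := h.tr _ ⟨u, hu, rfl⟩ _ ⟨v, hv, rfl⟩ (mt (H.ne1 hu).1 u1) (mt (H.ne1 hv).1 v1)
    obtain ⟨c, hc, e⟩ := H.lift l
    refine ⟨c, ⟨H.le c hc, c, hc, fun x hx => ?_, fun _ _ => rfl⟩, e u hu v hv h2.symm⟩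
    obtain ⟨y, hy, e'⟩ := h1 _ ⟨x, hx, rfl⟩
    rwa [e x hx y hy e']
  · rw [mul_cj, mul_cj, c2 u hu, b2 u hu, b2 _ (c1 u hu), c2 _ (b1 u hu)]
    refine H.ext (b1 _ (c1 u hu)) (c1 _ (b1 u hu)) ?_
    rw [H.cj2 hβ (H.UC (c1 u hu)), H.cj2 hγ (H.UC hu), H.cj2 hγ (H.UC (b1 u hu)),
      H.cj2 hβ (H.UC hu), ← mul_cj, ← mul_cj]
    exact h.comm _ _ (nP β hβ b1) (nP γ hγ c1) _ ⟨u, hu, rfl⟩
  · have h3 := mem_norm.1 (inv_mem (mem_norm.2 h2))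
    refine ⟨by rw [← h1, cj_cj, ha], cj g β, H.nrm g h1 β hβ, fun u hu => ?_, fun u hu => ?_⟩
    · rw [← cj_inv_cj g u, cj_cj]
      exact h2 _ (b1 _ (h3 u hu))
    · rw [← cj_inv_cj g u, cj_cj, cj_cj, b2 _ (h3 u hu)]

theorem cd {z v y : L} {R : Subgroup L} (h : LD H.P z v y R) : ∃ z v y R, CD t z v y R := by
  have I := H.idx hL
  obtain ⟨v, hv, rfl⟩ := h.I.mem
  obtain ⟨y, hy, rfl⟩ := h.I.le h.yR
  let R' : Subgroup G :=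
    { carrier := {x | x ∈ H.U ∧ (Ψ x).2 ∈ R}
      one_mem' := ⟨one_mem _, H.one2 ▸ R.one_mem⟩
      mul_mem' := fun ha hb => ⟨mul_mem ha.1 hb.1, by
        rw [H.mul2 (H.UC ha.1) (H.UC hb.1)]; exact R.mul_mem ha.2 hb.2⟩
      inv_mem' := fun ha => ⟨inv_mem ha.1, by rw [H.inv (H.UC ha.1)]; exact R.inv_mem ha.2⟩ }
  have J : Idx R' H.U v := ⟨fun x hx => hx.1, hv, fun e => h.I.nmem e.2, fun x hx =>
    (h.I.dich _ ⟨x, hx, rfl⟩).imp (fun e => ⟨hx, e⟩) fun e => ⟨mul_mem (inv_mem hv) hx, by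
      rwa [H.mul2 (C.inv_mem (H.UC hv)) (H.UC hx), H.inv (H.UC hv)]⟩⟩
  have hz : (Ψ (y * y)).2 = z := by rw [H.mul2 (H.UC hy) (H.UC hy), h.yz]
  have yy := mul_mem hy hy
  have sq : ∀ x ∈ H.U, x * x = 1 ↔ (Ψ x).2 * (Ψ x).2 = 1 := fun x hx => by
    rw [← H.ne1 (mul_mem hx hx), H.mul2 (H.UC hx) (H.UC hx)]
  refine ⟨y * y, v, y, R', H.tt, fun r hr => H.le r (H.UC hr.1), H.le v (H.UC hv),
    (sq v hv).2 h.vv, J.nmem, fun r hr => H.ext (cj_mem hv hr.1) (inv_mem hr.1) ?_, ⟨hy, h.yR⟩, rfl,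
    fun e => h.z1 (by rw [← hz, e, H.one2]), (sq _ yy).2 (by rw [hz, h.zz]), fun r hr e => ?_,
    by rw [Idx.eq_adj J]; exact I.nmem, by rw [Idx.eq_adj J, Idx.eq_adj I]; exact H.syl, ?_, ?_⟩
  · rw [H.cj2 (H.UC hv) (H.UC hr.1), h.inv _ hr.2, H.inv (H.UC hr.1)]; rfl
  · exact (h.uniq _ hr.2 ((sq r hr.1).1 e)).imp (H.ne1 hr.1).1
      fun e => H.ext hr.1 yy (e.trans hz.symm)
  · rw [Idx.eq_adj J]
    intro x hx xx x1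
    obtain ⟨l, e⟩ := h.conj _ ((sq x hx).1 xx) (mt (H.ne1 hx).1 x1)
    obtain ⟨c, hc, e'⟩ := H.lift l
    exact ⟨c, H.le c hc, e' _ yy x hx (by rw [hz, e])⟩
  · rw [Idx.eq_adj J]
    intro a ha b hb p
    obtain ⟨l, e1, e2⟩ := h.rot (Ψ a).2 (Ψ b).2 ⟨(sq a ha).1 p.sq₁, mt (H.ne1 ha).1 p.ne₁,
      (sq b hb).1 p.sq₂, mt (H.ne1 hb).1 p.ne₂, fun e => p.ne (H.ext ha hb e), by
        rw [← H.mul2 (H.UC ha) (H.UC hb), p.comm, H.mul2 (H.UC hb) (H.UC ha)]⟩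
    obtain ⟨c, hc, e'⟩ := H.lift l
    exact ⟨c, H.le c hc, e' a ha b hb e1.symm,
      e' b hb _ (mul_mem ha hb) (by rw [e2, H.mul2 (H.UC ha) (H.UC hb)])⟩

theorem main (hG : ∀ K : Subgroup G, K.index ≠ 2) :
    Syl T ⊤ ∧ Nat.card T = 8 ∧ ∀ x ∈ T, x * x = 1 := by
  rcases hL _ (H.sylP hL) with h | ⟨z, v, y, R, h⟩
  · obtain ⟨B, E⟩ := H.ce hL h
    have := E.main hG
    have h2 := fun x => E.Tsq (x := x)
    rw [Idx.eq_adj (H.idx hL)] at this h2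
    exact ⟨this.1, this.2, h2⟩
  · obtain ⟨z, v, y, R, E⟩ := H.cd hL h
    exact (E.false hG).elim

end Loc

end H4.TL
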